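import Cfsg.Agent.Lib.Components.TwoRankOne

/-!
# A non-cyclic finite simple group has a Klein four subgroup, given solubility for odd order
-/

set_option autoImplicit false
set_option linter.all false

namespace CfsgLib.OddGated29

open Subgroup

variable {G : Type*} [Group G] [Finite G]

/-- A subgroup of exponent two of order more than two contains a Klein four subgroup. -/
theorem exists_kleinFour_of_two_lt {A : Subgroup G} (hA : ∀ a ∈ A, a ^ 2 = 1) (h : 2 < Nat.card A) :
    ∃ E : Subgroup G, IsKleinFour E := by
  haveI : Fact (Nat.Prime 2) := ⟨Nat.prime_two⟩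
  have hp : IsPGroup 2 A := fun a => ⟨1, Subtype.ext (by simpa using hA a a.2)⟩
  obtain ⟨n, hn⟩ := hp.exists_card_eq
  have h4 : 2 ^ 2 ∣ Nat.card A := by
    rw [hn]
    apply pow_dvd_pow
    by_contra hlt
    have : 2 ^ n ≤ 2 ^ 1 := Nat.pow_le_pow_right two_pos (by omega)
    omega
  obtain ⟨K, hK⟩ := Sylow.exists_subgroup_card_pow_prime 2 h4
  refine ⟨K.map A.subtype, ⟨?_, ?_⟩⟩
  · rw [Nat.card_congr (K.equivMapOfInjective A.subtype A.subtype_injective).symm.toEquiv, hK]; rfl
  · refine ((Nat.prime_two).dvd_iff_eq ?_).1 ?_ |>.symm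
    · intro h1
      haveI := Monoid.exp_eq_one_iff.1 h1
      have := Nat.card_of_subsingleton (1 : K.map A.subtype)
      rw [Nat.card_congr (K.equivMapOfInjective A.subtype A.subtype_injective).symm.toEquiv, hK] at this
      norm_num at this
    · refine Monoid.exponent_dvd_of_forall_pow_eq_one fun x => Subtype.ext ?_
      obtain ⟨y, hy, hyx⟩ := x.2
      rw [SubgroupClass.coe_pow, OneMemClass.coe_one, ← hyx]
      exact hA _ y.2

/-- S0204 given solubility of groups of odd order. -/
theorem exists_kleinFour_of_simple [IsSimpleGroup G] (hG : ¬ IsCyclic G)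
    (hsolv : Odd (Nat.card G) → Group.IsSolvable G) : ∃ E : Subgroup G, IsKleinFour E := by
  have hna : ¬ IsMulCommutative G := fun h => hG (by
    letI : CommGroup G := { (inferInstance : Group G) with mul_comm := h.1.comm }
    exact IsSimpleGroup.isCyclic)
  have hcen : center G = ⊥ := by
    rcases (inferInstance : (center G).Normal).eq_bot_or_eq_top with h | h
    · exact h
    · exact absurd ⟨⟨fun a b => mem_center_iff.1 (h ▸ mem_top b) a⟩⟩ hna
  have hcomm : commutator G = ⊤ := by
    rcases (inferInstance : (commutator G).Normal).eq_bot_or_eq_top with h | h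
    · exact absurd ⟨⟨fun a b => mem_center_iff.1
        (((commutator_eq_bot_iff_center_eq_top G).1 h) ▸ mem_top b) a⟩⟩ hna
    · exact h
  by_contra hno
  have hrk : Cfsg.PRankLE 2 1 G := by
    intro A _ hA
    by_contra hlt
    exact hno (exists_kleinFour_of_two_lt hA (by norm_num at hlt ⊢; exact hlt))
  have heven : Even (Nat.card G) := by
    by_contra hne
    haveI := hsolv (Nat.not_even_iff_odd.1 hne)
    exact (Group.IsSolvable.commutator_lt_top_of_nontrivial G).ne hcomm
  obtain ⟨t, ht, htc⟩ := CfsgLib.Components.exists_central_involution_of_rank_le_one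
    (L := G) ⟨⟨hcomm⟩, by
      exact (QuotientGroup.quotientMulEquivOfEq hcen).trans QuotientGroup.quotientBot |>.isSimpleGroup⟩
    heven.two_dvd hrk
  rw [hcen, mem_bot] at htc
  rw [htc, orderOf_one] at ht
  exact absurd ht (by norm_num)

end CfsgLib.OddGated29
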