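import Cfsg.Agent.Lib.HallGen.Counting

/-!
# No class size divisible by four forces solubility, given solubility for odd order
-/

set_option autoImplicit false
set_option linter.all false

namespace CfsgLib.OddGated29

open Subgroup
open scoped Pointwise

universe u

variable {G : Type u} [Group G] [Finite G]

/-- No class size is divisible by four. -/
def NoFour (G : Type u) [Group G] : Prop :=
  ∀ x : G, ¬ 4 ∣ (centralizer ({x} : Set G)).index

theorem NoFour.subgroup (h : NoFour G) (N : Subgroup G) [N.Normal] : NoFour N := by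
  intro x hx
  refine h (x : G) (hx.trans ?_)
  refine dvd_trans (dvd_of_eq ?_) (CfsgLib.HallGen.relIndex_dvd_index_right (centralizer ({(x : G)} : Set G)) N)
  rw [relIndex]
  congr 1
  ext y
  rw [mem_subgroupOf, mem_centralizer_singleton_iff, mem_centralizer_singleton_iff]
  exact ⟨fun e => congrArg Subtype.val e, fun e => Subtype.ext e⟩

theorem NoFour.quotient (h : NoFour G) (N : Subgroup G) [N.Normal] : NoFour (G ⧸ N) := by
  intro x hx
  obtain ⟨g, rfl⟩ := QuotientGroup.mk'_surjective N x
  refine h g (hx.trans ?_)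
  refine (index_dvd_of_le ?_).trans (index_map_dvd (centralizer ({g} : Set G)) (QuotientGroup.mk'_surjective N))
  rintro y ⟨z, hz, rfl⟩
  rw [mem_centralizer_singleton_iff, ← map_mul, ← map_mul, mem_centralizer_singleton_iff.1 hz]

theorem not_simple_of_noFour [IsSimpleGroup G] (hna : ¬ IsMulCommutative G) (heven : 2 ∣ Nat.card G) :
    ¬ NoFour G := by
  intro h
  haveI : Fact (Nat.Prime 2) := ⟨Nat.prime_two⟩
  have hperf : commutator G = ⊤ := by
    rcases (inferInstance : (commutator G).Normal).eq_bot_or_eq_top with h | h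
    · exact absurd ⟨⟨fun a b => mem_center_iff.1
        (((commutator_eq_bot_iff_center_eq_top G).1 h) ▸ mem_top b) a⟩⟩ hna
    · exact h
  have hcen : center G = ⊥ := by
    rcases (inferInstance : (center G).Normal).eq_bot_or_eq_top with h | h
    · exact h
    · exact absurd ⟨⟨fun a b => mem_center_iff.1 (h ▸ mem_top b) a⟩⟩ hna
  obtain ⟨S⟩ := Sylow.nonempty (p := 2) (G := G)
  -- every element centralises a subgroup of index at most two of some conjugate of `S`
  have hcov : ∀ x : G, ∃ (g : G) (T : Subgroup (S : Subgroup G)), T.index ∣ 2 ∧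
      ∀ t ∈ T, g * (t : G) * g⁻¹ * x = x * (g * (t : G) * g⁻¹) := by
    intro x
    set C := centralizer ({x} : Set G) with hC
    obtain ⟨P⟩ := Sylow.nonempty (p := 2) (G := C)
    obtain ⟨Q, hQ⟩ := (P.isPGroup'.map C.subtype).exists_le_sylow
    obtain ⟨g, hg⟩ := MulAction.exists_smul_eq G S Q
    refine ⟨g, ((P : Subgroup C).map C.subtype).comap ((MulAut.conj g).toMonoidHom.comp (S : Subgroup G).subtype), ?_, ?_⟩
    · rw [index_comap]
      have hrange : ((MulAut.conj g).toMonoidHom.comp (S : Subgroup G).subtype).range = (Q : Subgroup G) := by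
        rw [MonoidHom.range_comp, range_subtype, ← hg]
        rfl
      rw [hrange]
      -- `[Q : P] ` divides `[G : P]`, a number not divisible by four
      have h1 : ((P : Subgroup C).map C.subtype).relIndex (Q : Subgroup G) ∣ ((P : Subgroup C).map C.subtype).index :=
        ⟨_, (relIndex_mul_index hQ).symm⟩
      rw [Subgroup.index_map_subtype] at h1
      obtain ⟨n, hn⟩ := IsPGroup.iff_card.1 Q.isPGroup'
      obtain ⟨k, -, hk⟩ := (Nat.dvd_prime_pow Nat.prime_two).1
        ((relIndex_dvd_card ((P : Subgroup C).map C.subtype) (Q : Subgroup G)).trans (dvd_of_eq hn))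
      rw [hk] at h1 ⊢
      rcases k with _ | _ | k
      · norm_num
      · norm_num
      · exfalso
        have h4 : 4 ∣ C.index :=
          (((Nat.Coprime.pow_left (k + 1 + 1) ((Nat.prime_two.coprime_iff_not_dvd).2 P.not_dvd_index)).dvd_of_dvd_mul_left h1) |>
            (dvd_trans ⟨2 ^ k, by ring⟩))
        exact h x h4
    · intro t ht
      obtain ⟨y, -, hy⟩ := ht
      have : g * (t : G) * g⁻¹ ∈ C := by
        rw [show g * (t : G) * g⁻¹ = (y : G) from hy.symm]; exact y.2
      exact mem_centralizer_singleton_iff.1 this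
  -- hence some proper centraliser covers `G`, which is impossible
  have hjordan : ∀ z : G, z ≠ 1 → (∀ x : G, ∃ g : G, g * z * g⁻¹ * x = x * (g * z * g⁻¹)) → False := by
    intro z hz hall
    have hne : centralizer ({z} : Set G) ≠ ⊤ := fun e => hz (by
      have : z ∈ center G := mem_center_iff.2 fun y =>
        mem_centralizer_singleton_iff.1 (e ▸ mem_top y : y ∈ centralizer ({z} : Set G))
      rwa [hcen, mem_bot] at this)
    obtain ⟨x, hx⟩ := CfsgLib.HallGen.exists_not_mem_conj _ hne
    obtain ⟨g, hg⟩ := hall x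
    refine hx g ?_
    rw [Subgroup.mem_pointwise_smul_iff_inv_smul_mem, mem_centralizer_singleton_iff]
    show (MulAut.conj g)⁻¹ x * z = z * (MulAut.conj g)⁻¹ x
    apply (MulAut.conj g).injective
    simp only [map_mul, MulAut.apply_inv_self, MulAut.conj_apply]
    exact hg.symm
  by_cases hsq : ∀ s : (S : Subgroup G), s ^ 2 = 1
  swap
  · push Not at hsq
    obtain ⟨s, hs⟩ := hsq
    refine hjordan ((s : G) ^ 2) (fun e => hs (Subtype.ext (by simpa using e))) fun x => ?_
    obtain ⟨g, T, hT, hgT⟩ := hcov x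
    refine ⟨g, ?_⟩
    have : s ^ 2 ∈ T := by
      rcases (Nat.dvd_prime Nat.prime_two).1 hT with e | e
      · rw [index_eq_one.1 e]; exact mem_top _
      · exact sq_mem_of_index_two e s
    simpa using hgT _ this
  -- `S` is elementary abelian
  have hScomm : ∀ a b : (S : Subgroup G), a * b = b * a := fun a b => by
    have ha := hsq a; have hb := hsq b; have hab := hsq (a * b)
    rw [pow_two] at ha hb hab
    calc a * b = a * (a * b * (a * b)) * b := by rw [hab, mul_one]
      _ = (a * a) * b * a * (b * b) := by group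
      _ = b * a := by rw [ha, hb, one_mul, mul_one]
  haveI hSab : IsMulCommutative (S : Subgroup G) := ⟨⟨hScomm⟩⟩
  letI : CommGroup (S : Subgroup G) := { (inferInstance : Group (S : Subgroup G)) with mul_comm := hScomm }
  obtain ⟨t, ht⟩ : ∃ t : (S : Subgroup G), t ≠ 1 := by
    by_contra hcon
    push Not at hcon
    have : Nat.card (S : Subgroup G) = 1 := Nat.card_eq_one_iff_unique.2 ⟨⟨fun a b => by rw [hcon a, hcon b]⟩, ⟨1⟩⟩
    have h2 := S.dvd_card_of_dvd_card heven
    rw [this] at h2
    norm_num at h2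
  -- no element of `S` other than one is central in the normaliser
  have hfix : ∀ s : (S : Subgroup G), (∀ n ∈ normalizer ((S : Subgroup G) : Set G), n * (s : G) * n⁻¹ = s) → s = 1 := by
    intro s hs
    haveI : (S : Subgroup G).FiniteIndex := inferInstance
    have key : ∀ (k : ℕ) (g₀ : G), g₀⁻¹ * (s : G) ^ k * g₀ ∈ (S : Subgroup G) →
        g₀⁻¹ * (s : G) ^ k * g₀ = (s : G) ^ k := by
      intro k g₀ hk
      obtain ⟨n, hn, hn'⟩ := S.conj_eq_normalizer_conj_of_mem ((s : G) ^ k) g₀ (pow_mem s.2 k) hk
      rw [hn']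
      have := hs n⁻¹ (inv_mem hn)
      rw [inv_inv] at this
      conv_rhs => rw [← this]
      rw [show n⁻¹ * (s : G) * n = n⁻¹ * (s : G) * n⁻¹⁻¹ by rw [inv_inv], conj_pow, inv_inv]
    have h1 := MonoidHom.transfer_eq_pow (ϕ := MonoidHom.id (S : Subgroup G)) (s : G) key
    have h2 : MonoidHom.transfer (MonoidHom.id (S : Subgroup G)) (s : G) = 1 := by
      have hle := Abelianization.commutator_subset_ker (MonoidHom.transfer (MonoidHom.id (S : Subgroup G)))
      rw [hperf] at hle
      exact hle (mem_top _)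
    rw [h2, MonoidHom.id_apply] at h1
    have h3 : s ^ (S : Subgroup G).index = 1 := Subtype.ext (by simpa using (congrArg Subtype.val h1).symm)
    obtain ⟨m, hm⟩ := Nat.odd_iff.2 (Nat.two_dvd_ne_zero.1 S.not_dvd_index)
    rw [hm, pow_succ, pow_mul, hsq, one_pow, one_mul] at h3
    exact h3
  -- orbit products over `N_G(S) / S`
  set N := normalizer ((S : Subgroup G) : Set G) with hN
  set SN := (S : Subgroup G).subgroupOf N with hSN
  haveI : Fintype (N ⧸ SN) := Fintype.ofFinite _
  have hmem : ∀ n : N, (n : G) * (t : G) * (n : G)⁻¹ ∈ (S : Subgroup G) := fun n =>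
    (mem_normalizer_iff.1 n.2 _).1 t.2
  let f : N ⧸ SN → (S : Subgroup G) := fun q => ⟨(q.out : G) * (t : G) * (q.out : G)⁻¹, hmem q.out⟩
  have hout : ∀ (m : N) (q : N ⧸ SN), (f (m • q) : G) = (m : G) * (f q : G) * (m : G)⁻¹ := by
    intro m q
    have h1 : (QuotientGroup.mk (m • q).out : N ⧸ SN) = QuotientGroup.mk (m * q.out) := by
      rw [QuotientGroup.out_eq']
      conv_lhs => rw [← QuotientGroup.out_eq' q]
      rfl
    obtain ⟨s, hs, hse⟩ : ∃ s : N, s ∈ SN ∧ (m • q).out = m * q.out * s :=
      ⟨(m * q.out)⁻¹ * (m • q).out, QuotientGroup.eq.1 h1.symm, by group⟩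
    have hst : (s : G) * (t : G) = (t : G) * (s : G) :=
      congrArg Subtype.val (hScomm ⟨(s : G), hs⟩ t)
    show ((m • q).out : G) * (t : G) * ((m • q).out : G)⁻¹ = _
    rw [hse]
    simp only [coe_mul, f]
    calc (m : G) * (q.out : G) * (s : G) * (t : G) * ((m : G) * (q.out : G) * (s : G))⁻¹
        = (m : G) * (q.out : G) * ((s : G) * (t : G)) * ((m : G) * (q.out : G) * (s : G))⁻¹ := by group
      _ = (m : G) * ((q.out : G) * (t : G) * (q.out : G)⁻¹) * (m : G)⁻¹ := by rw [hst]; group
  have hprod : ∏ q : N ⧸ SN, f q = 1 := by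
    refine hfix _ fun n hn => ?_
    set m : N := ⟨n, hn⟩
    have hmap : (⟨n * ((∏ q : N ⧸ SN, f q : (S : Subgroup G)) : G) * n⁻¹,
        (mem_normalizer_iff.1 hn _).1 (∏ q : N ⧸ SN, f q).2⟩ : (S : Subgroup G)) = ∏ q : N ⧸ SN, f (m • q) := by
      let φ : (S : Subgroup G) →* (S : Subgroup G) := MonoidHom.mk'
        (fun s => ⟨n * (s : G) * n⁻¹, (mem_normalizer_iff.1 hn _).1 s.2⟩)
        (fun a b => Subtype.ext (by simp only [coe_mul]; group))
      show φ (∏ q : N ⧸ SN, f q) = _
      rw [map_prod]
      exact Finset.prod_congr rfl fun q _ => Subtype.ext (hout m q).symm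
    have hperm : ∏ q : N ⧸ SN, f (m • q) = ∏ q : N ⧸ SN, f q :=
      Equiv.prod_comp (MulAction.toPerm m) f
    exact congrArg Subtype.val (hmap.trans hperm)
  have hoddN : Odd (Fintype.card (N ⧸ SN)) := by
    rw [← Nat.card_eq_fintype_card, ← index_eq_card]
    refine Nat.odd_iff.2 (Nat.two_dvd_ne_zero.1 fun hd => S.not_dvd_index (hd.trans ?_))
    exact ⟨_, (relIndex_mul_index (le_normalizer (H := (S : Subgroup G)))).symm⟩
  -- so every subgroup of index at most two meets the orbit of `t`
  refine hjordan (t : G) (fun e => ht (Subtype.ext e)) fun x => ?_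
  obtain ⟨g, T, hT, hgT⟩ := hcov x
  obtain ⟨q, hq⟩ : ∃ q : N ⧸ SN, f q ∈ T := by
    rcases (Nat.dvd_prime Nat.prime_two).1 hT with e | e
    · exact ⟨(1 : N), by rw [index_eq_one.1 e]; exact mem_top _⟩
    by_contra hcon
    push Not at hcon
    have h2 : Nat.card ((S : Subgroup G) ⧸ T) = 2 := e
    obtain ⟨a, b, -, hab⟩ := Nat.card_eq_two_iff.1 h2
    have hall : ∀ q, (f q : (S : Subgroup G) ⧸ T) = (f (1 : N) : (S : Subgroup G) ⧸ T) := by
      intro q
      rw [QuotientGroup.eq]
      exact (mul_mem_iff_of_index_two e).2 (iff_of_false (fun hh => hcon q (inv_mem_iff.1 hh)) (hcon _))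
    have h3 : ((∏ q : N ⧸ SN, f q : (S : Subgroup G)) : (S : Subgroup G) ⧸ T) = 1 := by rw [hprod]; rfl
    rw [← QuotientGroup.mk'_apply, map_prod] at h3
    simp only [QuotientGroup.mk'_apply, hall, Finset.prod_const, Finset.card_univ] at h3
    obtain ⟨j, hj⟩ := hoddN
    rw [hj, pow_succ, pow_mul, ← QuotientGroup.mk_pow, hsq, QuotientGroup.mk_one, one_pow, one_mul,
      QuotientGroup.eq_one_iff] at h3
    exact hcon _ h3
  refine ⟨g * (q.out : G), ?_⟩
  have := hgT _ hq
  simp only [f] at this
  simpa [mul_assoc] using this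

/-- S4167 given solubility of groups of odd order. -/
theorem isSolvable_of_noFour
    (hodd : ∀ (H : Type u) [Group H] [Finite H], Odd (Nat.card H) → Group.IsSolvable H) :
    ∀ {G : Type u} [Group G] [Finite G], NoFour G → Group.IsSolvable G := by
  intro G _ _ h
  induction hn : Nat.card G using Nat.strong_induction_on generalizing G with
  | _ n ih =>
    subst hn
    by_cases hN : ∃ N : Subgroup G, N.Normal ∧ N ≠ ⊥ ∧ N ≠ ⊤
    · obtain ⟨N, hN, hb, ht⟩ := hN
      haveI := ih _ (lt_of_le_of_ne (card_le_card_group N) fun e => ht (eq_top_of_card_eq N e)) (h.subgroup N) rfl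
      haveI := ih (Nat.card (G ⧸ N)) (by
        rw [← index_eq_card]
        calc N.index < Nat.card N * N.index :=
              lt_mul_of_one_lt_left (Nat.pos_of_ne_zero index_ne_zero_of_finite) ((one_lt_card_iff_ne_bot N).2 hb)
          _ = Nat.card G := N.card_mul_index) (h.quotient N) rfl
      exact Group.isSolvable_of_ker_le_range N.subtype (QuotientGroup.mk' N) (by rw [QuotientGroup.ker_mk', N.range_subtype])
    push Not at hN
    rcases subsingleton_or_nontrivial G with hs | hs
    · infer_instance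
    haveI : IsSimpleGroup G := ⟨fun N hN' => or_iff_not_imp_left.2 fun hb => hN N hN' hb⟩
    by_cases hab : IsMulCommutative G
    · exact Group.isSolvable_of_comm hab.1.comm
    by_cases heven : 2 ∣ Nat.card G
    · exact absurd h (not_simple_of_noFour hab heven)
    · exact hodd G (Nat.not_even_iff_odd.1 fun e => heven e.two_dvd)

end CfsgLib.OddGated29
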