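import Cfsg.Agent.Lib.Transfer.Fusion
import Cfsg.Agent.Lib.HallGen.Counting

/-!
# A largest subgroup with an automiser that is not a two-group

For a Sylow two-subgroup `S` of class at most two, such a subgroup can be taken normal in `S`
and containing its own centraliser in `S`.
-/

set_option autoImplicit false
set_option linter.all false

namespace CfsgLib.OddGated29.ClassTwo

open Subgroup
open scoped commutatorElement

variable {G : Type*} [Group G]

theorem pow_conj_of_fix {h q f : G} (hq : h * q * h⁻¹ = q * f) (hf : h * f = f * h) (i : ℕ) :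
    h ^ i * q * (h ^ i)⁻¹ = q * f ^ i := by
  induction i with
  | zero => simp
  | succ i ih =>
    have hfi : h * f ^ i = f ^ i * h := Commute.pow_right hf i
    calc h ^ (i + 1) * q * (h ^ (i + 1))⁻¹ = h * (h ^ i * q * (h ^ i)⁻¹) * h⁻¹ := by
          rw [pow_succ' h i]; group
      _ = h * q * h⁻¹ * (h * f ^ i * h⁻¹) := by rw [ih]; group
      _ = q * f * f ^ i := by rw [hq, hfi, mul_inv_cancel_right]
      _ = q * f ^ (i + 1) := by rw [pow_succ' f i]; group

theorem eq_one_of_pow_odd {f : G} {m k : ℕ} (hm : Odd m) (h1 : f ^ m = 1) (h2 : f ^ 2 ^ k = 1) :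
    f = 1 := by
  have hc : Nat.Coprime m (2 ^ k) :=
    ((Nat.coprime_two_left.2 hm).symm).pow_right k
  have hdvd : orderOf f ∣ Nat.gcd m (2 ^ k) :=
    Nat.dvd_gcd (orderOf_dvd_of_pow_eq_one h1) (orderOf_dvd_of_pow_eq_one h2)
  rw [hc.gcd_eq_one] at hdvd
  exact orderOf_eq_one_iff.1 (Nat.dvd_one.1 hdvd)

/-- An element of odd order moving `q` by a fixed two-element fixes `q`. -/
theorem eq_one_of_iter {h q f : G} (hodd : Odd (orderOf h)) (hq : h * q * h⁻¹ = q * f)
    (hf : h * f = f * h) {k : ℕ} (hk : f ^ 2 ^ k = 1) : f = 1 := by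
  refine eq_one_of_pow_odd hodd ?_ hk
  have := pow_conj_of_fix hq hf (orderOf h)
  rw [pow_orderOf_eq_one, one_mul, inv_one, mul_one] at this
  exact (left_eq_mul.1 this)

theorem commute_of_sq {u x : G} (hodd : Odd (orderOf u)) (h : u ^ 2 * x = x * u ^ 2) :
    u * x = x * u := by
  obtain ⟨k, hk⟩ := hodd
  have hu : (u ^ 2) ^ (k + 1) = u := by
    rw [← pow_mul, show 2 * (k + 1) = 2 * k + 1 + 1 by ring, pow_succ, ← hk, pow_orderOf_eq_one,
      one_mul]
  have := Commute.pow_left (h : Commute (u ^ 2) x) (k + 1)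
  rwa [hu] at this

theorem exists_odd_pow [Finite G] (h : G) : ∃ a : ℕ, Odd (orderOf (h ^ 2 ^ a)) := by
  refine ⟨(orderOf h).factorization 2, ?_⟩
  rw [orderOf_pow_of_dvd (pow_ne_zero _ two_ne_zero) (Nat.ordProj_dvd _ _), ← Nat.not_even_iff_odd,
    even_iff_two_dvd]
  exact Nat.not_dvd_ordCompl Nat.prime_two (orderOf_pos h).ne'

theorem pow_two_pow_ne_one {u : G} (hodd : Odd (orderOf u)) (hu : u ≠ 1) (a : ℕ) :
    u ^ 2 ^ a ≠ 1 :=
  fun h => hu (eq_one_of_pow_odd hodd (pow_orderOf_eq_one u) h)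

theorem coprime_two_iff {n : ℕ} : Nat.Coprime n 2 ↔ Odd n := Nat.coprime_two_right

/-- The Frattini argument relative to a subgroup normalised by `L`. -/
theorem frattini_ex [Finite G] {L P1 : Subgroup G} (hP1L : P1 ≤ L)
    (hLn : L ≤ normalizer (P1 : Set G)) (T : Sylow 2 L) {g : G} (hg : g ∈ L) :
    ∃ n ∈ P1, n * g ∈ normalizer ((((T : Subgroup L).map L.subtype) ⊓ P1 : Subgroup G) : Set G) := by
  haveI : Fact (Nat.Prime 2) := ⟨Nat.prime_two⟩
  haveI hn : (P1.subgroupOf L).Normal := (normal_subgroupOf_iff_le_normalizer hP1L).2 hLn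
  set N := P1.subgroupOf L with hNdef
  have hnd : ¬ 2 ∣ (T : Subgroup L).relIndex N := fun hd =>
    T.not_dvd_index (hd.trans (CfsgLib.HallGen.relIndex_dvd_index_right _ _))
  let T' : Sylow 2 N := (T.2.comap_subtype).toSylow hnd
  have hT' : (T' : Subgroup N).map N.subtype = (T : Subgroup L) ⊓ N := subgroupOf_map_subtype _ _
  have hfr : normalizer (((T : Subgroup L) ⊓ N : Subgroup L) : Set L) ⊔ N = ⊤ :=
    hT' ▸ Sylow.normalizer_sup_eq_top T'
  have hgm : (⟨g, hg⟩ : L) ∈ normalizer (((T : Subgroup L) ⊓ N : Subgroup L) : Set L) ⊔ N :=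
    hfr.symm ▸ mem_top _
  rw [← SetLike.mem_coe, coe_mul_of_left_le_normalizer_right _ N le_normalizer_of_normal] at hgm
  obtain ⟨m, hm, n, hnN, hmn⟩ := hgm
  have hmn' : (m : G) * (n : G) = g := congrArg Subtype.val hmn
  have hnP : (n : G) ∈ P1 := hnN
  refine ⟨(m : G) * (n : G)⁻¹ * (m : G)⁻¹, ?_, ?_⟩
  · exact (mem_normalizer_iff.1 (hLn m.2) _).1 (P1.inv_mem hnP)
  · rw [← hmn', show (m : G) * (n : G)⁻¹ * (m : G)⁻¹ * ((m : G) * n) = (m : G) by group]
    have key : (((T : Subgroup L).map L.subtype) ⊓ P1 : Subgroup G)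
        = ((T : Subgroup L) ⊓ N).map L.subtype := by
      rw [Subgroup.map_inf _ _ _ L.subtype_injective, hNdef, subgroupOf_map_subtype,
        inf_eq_left.2 hP1L]
    rw [key]
    exact le_normalizer_map L.subtype ⟨m, hm, rfl⟩

/-- A two-subgroup normalised by an element of odd order that does not centralise it. -/
def Bad (Q : Subgroup G) : Prop :=
  IsPGroup 2 Q ∧ ∃ u ∈ normalizer (Q : Set G), Odd (orderOf u) ∧ u ∉ centralizer (Q : Set G)

theorem Bad.map {Q : Subgroup G} (h : Bad Q) (φ : G ≃* G) : Bad (Q.map φ.toMonoidHom) := by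
  obtain ⟨hp, u, hu, ho, hc⟩ := h
  refine ⟨hp.map _, φ u, le_normalizer_map φ.toMonoidHom ⟨u, hu, rfl⟩,
    by rwa [MulEquiv.orderOf_eq φ u], fun hcc => hc (mem_centralizer_iff.2 fun q hq => ?_)⟩
  apply φ.injective
  rw [map_mul, map_mul]
  exact mem_centralizer_iff.1 hcc _ ⟨q, hq, rfl⟩

variable [Finite G]

theorem bad_of_image {Q R : Subgroup G} (hR : IsPGroup 2 R) (hQR : Q ≤ R) {g : G}
    (hgR : g ∈ normalizer (R : Set G)) (hodd : Odd (orderOf g)) (hgQ : g ∉ centralizer (Q : Set G)) :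
    Bad R :=
  ⟨hR, g, hgR, hodd, fun h => hgQ (centralizer_le (SetLike.coe_subset_coe.2 hQR) h)⟩

/-- A largest bad subgroup contains the centraliser in a Sylow subgroup of its normaliser. -/
theorem centralizer_mem_of_max {Q : Subgroup G} (hQ : Bad Q)
    (hmax : ∀ R : Subgroup G, Bad R → Nat.card R ≤ Nat.card Q)
    (T : Sylow 2 ↥(normalizer (Q : Set G))) {x : G}
    (hxT : x ∈ (T : Subgroup ↥(normalizer (Q : Set G))).map (normalizer (Q : Set G)).subtype)
    (hxC : x ∈ centralizer (Q : Set G)) : x ∈ Q := by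
  obtain ⟨hQp, u, huN, hodd, huC⟩ := hQ
  set C := centralizer (Q : Set G) with hC
  have hCL : C ≤ (normalizer (Q : Set G)) := centralizer_le_normalizer _
  have hLC : (normalizer (Q : Set G)) ≤ normalizer (C : Set G) := by
    intro g hg
    rw [mem_normalizer_iff]
    intro c
    have key : ∀ g ∈ (normalizer (Q : Set G)), ∀ c ∈ C, g * c * g⁻¹ ∈ C := by
      intro g hg c hc
      refine mem_centralizer_iff.2 fun q hq => ?_
      have hq' : g⁻¹ * q * g ∈ Q := by
        simpa using (mem_normalizer_iff.1 ((normalizer (Q : Set G)).inv_mem hg) q).1 hq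
      have := mem_centralizer_iff.1 hc _ hq'
      calc q * (g * c * g⁻¹) = g * ((g⁻¹ * q * g) * c) * g⁻¹ := by group
        _ = g * (c * (g⁻¹ * q * g)) * g⁻¹ := by rw [this]
        _ = _ := by group
    refine ⟨key g hg c, fun h => ?_⟩
    simpa [mul_assoc] using key g⁻¹ ((normalizer (Q : Set G)).inv_mem hg) _ h
  obtain ⟨n, hnC, hn⟩ := frattini_ex hCL hLC T huN
  set CT := (T : Subgroup (normalizer (Q : Set G))).map (normalizer (Q : Set G)).subtype ⊓ C with hCT
  have hCTL : CT ≤ (normalizer (Q : Set G)) := inf_le_left.trans (map_subtype_le _)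
  set R := CT ⊔ Q with hR
  have hRp : IsPGroup 2 R :=
    IsPGroup.to_sup_of_normal_right' ((T.2.map _).to_le inf_le_left) hQp hCTL
  set k := n * u with hk
  have hkL : k ∈ (normalizer (Q : Set G)) := (normalizer (Q : Set G)).mul_mem (hCL hnC) huN
  obtain ⟨a, ha⟩ := exists_odd_pow k
  have hkR : k ^ 2 ^ a ∈ normalizer (R : Set G) := by
    refine pow_mem (?_ : k ∈ normalizer (R : Set G)) _
    have h : k ∈ normalizer (CT : Set G) ⊓ normalizer (Q : Set G) := ⟨hn, hkL⟩
    rw [mem_normalizer_iff_map_conj_eq, hR, Subgroup.map_sup, mem_normalizer_iff_map_conj_eq.1 h.1,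
      mem_normalizer_iff_map_conj_eq.1 h.2]
  have hkC : k ^ 2 ^ a ∉ centralizer (Q : Set G) := by
    intro hc
    haveI : (C.subgroupOf (normalizer (Q : Set G))).Normal := (normal_subgroupOf_iff_le_normalizer hCL).2 hLC
    let π := QuotientGroup.mk' (C.subgroupOf (normalizer (Q : Set G)))
    have hku : π ⟨k, hkL⟩ = π ⟨u, huN⟩ := by
      have h0 : π (⟨n, hCL hnC⟩ : (normalizer (Q : Set G))) = 1 :=
        (QuotientGroup.eq_one_iff _).2 (show (⟨n, hCL hnC⟩ : (normalizer (Q : Set G))) ∈ C.subgroupOf (normalizer (Q : Set G)) from hnC)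
      rw [show (⟨k, hkL⟩ : (normalizer (Q : Set G))) = ⟨n, hCL hnC⟩ * ⟨u, huN⟩ from rfl, map_mul, h0, one_mul]
    have h1 : (π ⟨u, huN⟩) ^ 2 ^ a = 1 := by
      rw [← hku, ← map_pow]
      exact (QuotientGroup.eq_one_iff _).2 hc
    have hne : π ⟨u, huN⟩ ≠ 1 := fun e => huC ((QuotientGroup.eq_one_iff (N := C.subgroupOf (normalizer (Q : Set G))) _).1 e)
    refine pow_two_pow_ne_one ?_ hne a h1
    exact hodd.of_dvd_nat ((orderOf_map_dvd π _).trans (by rw [Subgroup.orderOf_mk]))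
  have hbad := bad_of_image hRp le_sup_right hkR ha hkC
  have hle : Q ≤ R := le_sup_right
  rw [Subgroup.eq_of_le_of_card_ge hle (hmax R hbad)]
  exact (le_sup_left : CT ≤ R) ⟨hxT, hxC⟩

/-- The facts about a largest bad subgroup that are used below. -/
structure Base (S : Sylow 2 G) (Q : Subgroup G) : Prop where
  le : Q ≤ S
  norm : (S : Subgroup G) ≤ normalizer (Q : Set G)
  bad : Bad Q
  max : ∀ R : Subgroup G, Bad R → Nat.card R ≤ Nat.card Q
  cent : ∀ x ∈ (S : Subgroup G), x ∈ centralizer (Q : Set G) → x ∈ Q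

theorem exists_base (S : Sylow 2 G)
    (hcl : ∀ x ∈ (S : Subgroup G), ∀ y ∈ (S : Subgroup G), ∀ w ∈ (S : Subgroup G),
      w * ⁅x, y⁆ = ⁅x, y⁆ * w)
    (hnc : ¬ Cfsg.HasNormalPComplement 2 G) : ∃ Q, Base S Q := by
  haveI : Fact (Nat.Prime 2) := ⟨Nat.prime_two⟩
  have hex : ∃ Q : Subgroup G, Bad Q := by
    by_contra h
    push Not at h
    refine hnc (CfsgLib.Transfer.hasNormalPComplement_of_centralizes S fun Q hQ g hg hc => ?_)
    by_contra hgc
    exact h Q ⟨S.2.to_le hQ, g, hg, coprime_two_iff.1 hc, hgc⟩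
  haveI : Nonempty {Q : Subgroup G // Bad Q} := ⟨⟨_, hex.choose_spec⟩⟩
  obtain ⟨⟨Q₀, hQ₀⟩, hmax₀⟩ :=
    Finite.exists_max (fun Q : {Q : Subgroup G // Bad Q} => Nat.card Q.1)
  have hmax : ∀ R : Subgroup G, Bad R → Nat.card R ≤ Nat.card Q₀ := fun R hR => hmax₀ ⟨R, hR⟩
  set L := normalizer (Q₀ : Set G) with hL
  obtain ⟨T⟩ := (Sylow.nonempty : Nonempty (Sylow 2 L))
  obtain ⟨S₀, hS₀⟩ := (T.2.map L.subtype).exists_le_sylow
  obtain ⟨g, hg⟩ := MulAction.exists_smul_eq G S₀ S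
  set φ : G ≃* G := MulAut.conj g with hφ
  have hmap : (S₀ : Subgroup G).map φ.toMonoidHom = S := by rw [← hg]; rfl
  have hmem : ∀ x ∈ (S₀ : Subgroup G), φ x ∈ (S : Subgroup G) := fun x hx =>
    hmap ▸ mem_map_of_mem φ.toMonoidHom hx
  have hQS₀ : Q₀ ≤ S₀ := by
    refine le_trans ?_ hS₀
    intro q hq
    haveI : (Q₀.subgroupOf L).Normal := (normal_subgroupOf_iff_le_normalizer le_normalizer).2 le_rfl
    have hp : IsPGroup 2 (Q₀.subgroupOf L) := hQ₀.1.comap_subtype
    exact ⟨⟨q, le_normalizer hq⟩, hp.le_sylow_of_normal T (show q ∈ Q₀ from hq), rfl⟩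
  have hT : ∀ z ∈ (S₀ : Subgroup G), z ∈ L → z ∈ (T : Subgroup L).map L.subtype := by
    intro z hz hzL
    have h1 : (T : Subgroup L) ≤ (S₀ : Subgroup G).subgroupOf L := fun t ht => hS₀ ⟨t, ht, rfl⟩
    have h2 : IsPGroup 2 ((S₀ : Subgroup G).subgroupOf L) := S₀.2.comap_subtype
    exact ⟨⟨z, hzL⟩, (T.3 h2 h1) ▸ (show z ∈ (S₀ : Subgroup G) from hz), rfl⟩
  have hcQ : ∀ z ∈ (S₀ : Subgroup G), (∀ w ∈ (S₀ : Subgroup G), w * z = z * w) → z ∈ Q₀ := by
    intro z hz hzc
    have hzC : z ∈ centralizer (Q₀ : Set G) := mem_centralizer_iff.2 fun q hq => hzc q (hQS₀ hq)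
    exact centralizer_mem_of_max hQ₀ hmax T (hT z hz (centralizer_le_normalizer _ hzC)) hzC
  have hcl₀ : ∀ x ∈ (S₀ : Subgroup G), ∀ y ∈ (S₀ : Subgroup G), ⁅x, y⁆ ∈ Q₀ := by
    intro x hx y hy
    refine hcQ _ ?_ fun w hw => φ.injective ?_
    · rw [commutatorElement_def]
      exact mul_mem (mul_mem (mul_mem hx hy) (inv_mem hx)) (inv_mem hy)
    · rw [map_mul, map_mul, map_commutatorElement]
      exact hcl _ (hmem x hx) _ (hmem y hy) _ (hmem w hw)
  have hN₀ : (S₀ : Subgroup G) ≤ L := by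
    intro s hs
    refine mem_normalizer_iff.2 fun q => ⟨fun hq => ?_, fun hq => ?_⟩
    · have := Q₀.mul_mem (hcl₀ s hs q (hQS₀ hq)) hq
      rwa [commutatorElement_def, inv_mul_cancel_right] at this
    · have := Q₀.mul_mem (hcl₀ s⁻¹ (inv_mem hs) _ (hQS₀ hq)) hq
      rw [commutatorElement_def, inv_mul_cancel_right] at this
      simpa [mul_assoc] using this
  refine ⟨Q₀.map φ.toMonoidHom, ?_, ?_, hQ₀.map φ, fun R hR => ?_, ?_⟩
  · exact hmap ▸ map_mono hQS₀
  · rw [← hmap]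
    exact (map_mono hN₀).trans (le_normalizer_map _)
  · rw [Subgroup.card_map_of_injective φ.injective]
    exact hmax R hR
  · intro x hx hxc
    have hN : (S : Subgroup G) ≤ normalizer ((Q₀.map φ.toMonoidHom : Subgroup G) : Set G) := by
      rw [← hmap]
      exact (map_mono hN₀).trans (le_normalizer_map _)
    refine centralizer_mem_of_max (hQ₀.map φ) (fun R hR => ?_) (S.subtype hN) ?_ hxc
    · rw [Subgroup.card_map_of_injective φ.injective]
      exact hmax R hR
    · rw [Sylow.coe_subtype, subgroupOf_map_subtype]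
      exact ⟨hx, hN hx⟩

end CfsgLib.OddGated29.ClassTwo
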