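import Cfsg.Agent.Lib.OddGated29.ClassTwoIndex

/-!
# The subgroup moved by the odd automorphism

For a self-normalising Sylow two-subgroup `S` of class at most two of a group without a normal
two-complement there are a normal elementary abelian subgroup `U` of `S` whose centraliser has
index two and an element outside `S` normalising every subgroup between `U` and that centraliser.
-/

set_option autoImplicit false
set_option linter.all false

namespace CfsgLib.OddGated29.ClassTwo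

open Subgroup
open scoped commutatorElement

variable {G : Type*} [Group G]

/-- The properties of the subgroup `U` used in the argument. -/
structure Good (S : Subgroup G) (U : Subgroup G) : Prop where
  le : U ≤ S
  norm : S ≤ normalizer (U : Set G)
  sq : ∀ v ∈ U, v * v = 1
  two : ∀ x ∈ S, ∀ y ∈ S, x ∉ centralizer (U : Set G) → y ∉ centralizer (U : Set G) →
    x * y ∈ centralizer (U : Set G)
  free : ∀ d ∈ S, d ∈ centralizer (U : Set G) → d * d ∈ U → d * d = 1
  small : ∀ T : Subgroup G, T ≤ U → (∀ x ∈ U, ∀ y ∈ U, x ∉ T → y ∉ T → x * y ∈ T) →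
    (∀ t ∈ T, ∀ s ∈ S, s * t = t * s) → ∀ v ∈ T, ∀ w ∈ T, v ≠ 1 → w ≠ 1 → v = w

variable [Finite G]

theorem exists_good (S : Sylow 2 G) (H : Hyp S) (hnc : ¬ Cfsg.HasNormalPComplement 2 G) :
    ∃ U : Subgroup G, Good (S : Subgroup G) U ∧ U ≠ ⊥ ∧ ∃ u : G, u ∉ (S : Subgroup G) ∧
      ∀ X : Subgroup G, U ≤ X → X ≤ (S : Subgroup G) ⊓ centralizer (U : Set G) →
        u ∈ normalizer (X : Set G) := by
  haveI : Fact (Nat.Prime 2) := ⟨Nat.prime_two⟩
  obtain ⟨Q, B⟩ := exists_base S H.cl hnc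
  obtain ⟨htwo, ⟨s₀, hs₀, hs₀Q⟩, u, huN, hodd, huK, hinv⟩ := B.index_two H
  have hQp := B.bad.1
  have huC : u ∉ centralizer (Q : Set G) := fun h => huK (centralizer_le_Kof Q h)
  have huS : u ∉ (S : Subgroup G) := by
    intro hu
    refine huC ?_
    obtain ⟨k, hk⟩ := S.2 ⟨u, hu⟩
    have h1 : u = 1 := eq_one_of_pow_odd hodd (pow_orderOf_eq_one u) (congrArg Subtype.val hk)
    rw [h1]; exact one_mem _
  -- `u` is trivial on `Q` modulo its centre
  have huT : u ∈ Tof Q := by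
    have hn : s₀ * u * s₀⁻¹ * u ∈ Tof Q := (hinv s₀ hs₀ hs₀Q).1
    have hsT := B.le_Tof H hs₀
    have h1 : u * s₀⁻¹ * u⁻¹ ∈ Tof Q := conj_mem_Tof huN (inv_mem hsT)
    have h3 : u * u ∈ Tof Q := by
      have h4 : s₀ * u * s₀⁻¹ * u⁻¹ ∈ Tof Q := by
        have := mul_mem hsT h1
        rwa [← mul_assoc, ← mul_assoc] at this
      have h5 := mul_mem (inv_mem h4) hn
      have : (s₀ * u * s₀⁻¹ * u⁻¹)⁻¹ * (s₀ * u * s₀⁻¹ * u) = u * u := by group
      rwa [this] at h5
    obtain ⟨k, hk⟩ := hodd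
    have hu : (u * u) ^ (k + 1) = u := by
      rw [← sq, ← pow_mul, show 2 * (k + 1) = 2 * k + 1 + 1 by ring, pow_succ, ← hk, pow_orderOf_eq_one,
        one_mul]
    exact hu ▸ pow_mem h3 _
  -- conjugation by the involution inverts `u` on the centre
  have hflip : ∀ x ∈ (S : Subgroup G), x ∉ Q → ∀ z ∈ Zof Q,
      x * (u * z * u⁻¹) * x⁻¹ = u⁻¹ * (x * z * x⁻¹) * u := by
    intro x hx hxQ z hz
    have hm : (x * u * x⁻¹ * u) ∈ Kof Q := hinv x hx hxQ
    have hn : u * (x * u * x⁻¹) ∈ Kof Q := by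
      have := (mem_normalizer_iff.1 (le_normalizer_Kof Q huN) _).1 hm
      simpa [mul_assoc] using this
    have hc := B.commute_Zof H hn (conj_mem_Zof (B.norm hx) hz)
    calc x * (u * z * u⁻¹) * x⁻¹
        = u⁻¹ * ((u * (x * u * x⁻¹)) * (x * z * x⁻¹) * (u * (x * u * x⁻¹))⁻¹) * u := by group
      _ = u⁻¹ * (x * z * x⁻¹) * u := by rw [hc, mul_inv_cancel_right]
  have hkey : ∀ x ∈ (S : Subgroup G), x ∉ Q → ∀ z ∈ Zof Q, x * z * x⁻¹ = z →
      x * (u * z * u⁻¹) * x⁻¹ = u * z * u⁻¹ → u * z = z * u := by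
    intro x hx hxQ z hz h1 h2
    have h3 := hflip x hx hxQ z hz
    rw [h2, h1] at h3
    refine commute_of_sq hodd ?_
    calc u ^ 2 * z = u * (u * z * u⁻¹) * u := by rw [sq]; group
      _ = u * (u⁻¹ * z * u) * u := by rw [h3]
      _ = z * u ^ 2 := by rw [sq]; group
  -- squares of the centre are fixed by `u`
  have hsq : ∀ z ∈ Zof Q, u * (z * z) = z * z * u := by
    have hfix : ∀ z ∈ Zof Q, s₀ * (z * z) * s₀⁻¹ = z * z := by
      intro z hz
      set c := ⁅s₀, z⁆ with hc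
      have hcc : ∀ w ∈ (S : Subgroup G), w * c = c * w := H.cl s₀ hs₀ z (B.le hz.1)
      have e1 : s₀ * z * s₀⁻¹ = c * z := by rw [hc, commutatorElement_def]; group
      have h2 : s₀ * s₀ * z * (s₀ * s₀)⁻¹ = z := by
        rw [B.commute_Zof H (B.sq_mem_Kof H hs₀) hz, mul_inv_cancel_right]
      have hc2 : c * c = 1 := by
        have e2 : s₀ * s₀ * z * (s₀ * s₀)⁻¹ = c * c * z := by
          calc s₀ * s₀ * z * (s₀ * s₀)⁻¹ = s₀ * (s₀ * z * s₀⁻¹) * s₀⁻¹ := by group
            _ = s₀ * (c * z) * s₀⁻¹ := by rw [e1]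
            _ = (s₀ * c) * s₀⁻¹ * (s₀ * z * s₀⁻¹) := by group
            _ = c * (s₀ * z * s₀⁻¹) := by rw [hcc s₀ hs₀]; group
            _ = c * c * z := by rw [e1]; group
        exact (mul_eq_right.1 (e2.symm.trans h2))
      calc s₀ * (z * z) * s₀⁻¹ = (s₀ * z * s₀⁻¹) * (s₀ * z * s₀⁻¹) := by group
        _ = c * z * (c * z) := by rw [e1]
        _ = c * (z * c) * z := by group
        _ = c * (c * z) * z := by rw [hcc z (B.le hz.1)]
        _ = z * z := by rw [← mul_assoc, hc2]; group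
    intro z hz
    refine hkey s₀ hs₀ hs₀Q _ (mul_mem hz hz) (hfix z hz) ?_
    have := hfix _ (conj_mem_Zof huN hz)
    have e : u * z * u⁻¹ * (u * z * u⁻¹) = u * (z * z) * u⁻¹ := by group
    rwa [e] at this
  -- the map `δ`
  set δ : G → G := fun q => q⁻¹ * (u * q * u⁻¹) with hδ
  have hδq : ∀ q, u * q * u⁻¹ = q * δ q := fun q => by simp only [hδ]; group
  have hδZ : ∀ q ∈ Q, δ q ∈ Zof Q := huT.2
  have hfree : ∀ q ∈ Q, u * δ q = δ q * u → δ q = 1 := by
    intro q hq hf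
    obtain ⟨k, hk⟩ := hQp ⟨δ q, (hδZ q hq).1⟩
    exact eq_one_of_iter hodd (hδq q) hf (congrArg Subtype.val hk)
  have hδsq : ∀ q ∈ Q, δ q * δ q = 1 := by
    intro q hq
    set e := δ q with he
    have hu2 : u * (q * q) * u⁻¹ = (q * q) * (e * e) := by
      calc u * (q * q) * u⁻¹ = (u * q * u⁻¹) * (u * q * u⁻¹) := by group
        _ = q * e * (q * e) := by rw [hδq]
        _ = q * (e * q) * e := by group
        _ = q * (q * e) * e := by rw [Zof.comm (hδZ q hq) hq]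
        _ = (q * q) * (e * e) := by group
    obtain ⟨k, hk⟩ := hQp ⟨e * e, Q.mul_mem (hδZ q hq).1 (hδZ q hq).1⟩
    exact eq_one_of_iter hodd hu2 (hsq e (hδZ q hq)) (congrArg Subtype.val hk)
  have hδV : ∀ q ∈ Q, δ q ∈ Vof Q := fun q hq => ⟨hδZ q hq, hδsq q hq⟩
  have hδmul : ∀ a ∈ Q, ∀ b ∈ Q, δ (a * b) = δ a * δ b := by
    intro a ha b hb
    calc δ (a * b) = b⁻¹ * ((δ a) * (u * b * u⁻¹)) := by simp only [hδ]; group
      _ = b⁻¹ * ((δ a) * b) * δ b := by rw [hδq]; group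
      _ = b⁻¹ * (b * δ a) * δ b := by rw [Zof.comm (hδZ a ha) hb]
      _ = δ a * δ b := by group
  let U : Subgroup G :=
    { carrier := {e | ∃ v ∈ Vof Q, δ v = e}
      one_mem' := ⟨1, one_mem _, by simp [hδ]⟩
      mul_mem' := by
        rintro _ _ ⟨a, ha, rfl⟩ ⟨b, hb, rfl⟩
        exact ⟨a * b, mul_mem ha hb, hδmul a ha.1.1 b hb.1.1⟩
      inv_mem' := by
        rintro _ ⟨a, ha, rfl⟩
        refine ⟨a, ha, (inv_eq_of_mul_eq_one_right (hδsq a ha.1.1)).symm⟩ }
  have hUV : ∀ e ∈ U, e ∈ Vof Q := by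
    rintro _ ⟨v, hv, rfl⟩; exact hδV v hv.1.1
  have hUfix : ∀ e ∈ U, u * e = e * u → e = 1 := by
    rintro _ ⟨v, hv, rfl⟩; exact hfree v hv.1.1
  have hUu : ∀ e ∈ U, u * e * u⁻¹ ∈ U := by
    rintro _ ⟨v, hv, rfl⟩
    exact ⟨u * v * u⁻¹, conj_mem_Vof huN hv, by simp only [hδ]; group⟩
  have hδU : ∀ q ∈ Q, δ q ∈ U := by
    intro q hq
    let d : U → U := fun e => ⟨δ e, ⟨_, hUV e e.2, rfl⟩⟩
    have hd : Function.Injective d := by
      intro a b hab
      have h : δ (a : G) = δ (b : G) := congrArg Subtype.val hab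
      have ha := hUV a a.2
      have hb := hUV b b.2
      have h1 : δ ((a : G) * b) = 1 := by
        rw [hδmul _ ha.1.1 _ hb.1.1, h, hδsq _ hb.1.1]
      have h2 : u * ((a : G) * b) = (a : G) * b * u := by
        have := hδq ((a : G) * b)
        rw [h1, mul_one] at this
        exact mul_inv_eq_iff_eq_mul.1 this
      have h3 := hUfix _ (U.mul_mem a.2 b.2) h2
      exact Subtype.ext (by
        calc (a : G) = (a : G) * ((b : G) * b) := by rw [hb.2, mul_one]
          _ = (a : G) * b * b := by group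
          _ = b := by rw [h3, one_mul])
    obtain ⟨⟨w, hw⟩, hdw⟩ := Finite.surjective_of_injective hd ⟨δ (δ q), ⟨_, hδV q hq, rfl⟩⟩
    have hdw' : δ w = δ (δ q) := congrArg Subtype.val hdw
    obtain ⟨v, hv, rfl⟩ := id hw
    have hfv : δ (q * v) = 1 := by
      refine hfree _ (Q.mul_mem hq hv.1.1) ?_
      rw [hδmul q hq v hv.1.1]
      have h1 : δ (δ q * δ v) = 1 := by
        rw [hδmul _ (hδV q hq).1.1 _ (hδV v hv.1.1).1.1, hdw', hδsq _ (hδV q hq).1.1]
      have := hδq (δ q * δ v)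
      rw [h1, mul_one] at this
      exact mul_inv_eq_iff_eq_mul.1 this
    rw [hδmul q hq v hv.1.1] at hfv
    rw [eq_inv_of_mul_eq_one_left hfv]
    exact U.inv_mem hw
  have hQU : ∀ e ∈ U, ∀ q ∈ Q, q * e = e * q := fun e he q hq => Zof.comm (hUV e he).1 hq
  have hUS : ∀ x ∈ (S : Subgroup G), ∀ e ∈ U, x * e * x⁻¹ ∈ U := by
    intro x hx e he
    by_cases hxQ : x ∈ Q
    · rw [hQU e he x hxQ, mul_inv_cancel_right]; exact he
    obtain ⟨v, hv, rfl⟩ := id he
    set v' := x * v * x⁻¹ with hv'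
    have hv'V : v' ∈ Vof Q := conj_mem_Vof (B.norm hx) hv
    set w := u⁻¹ * v' * u with hw
    have hwV : w ∈ Vof Q := by
      have := conj_mem_Vof (inv_mem huN) hv'V
      rwa [inv_inv] at this
    have e1 : x * δ v * x⁻¹ = (δ w)⁻¹ := by
      calc x * δ v * x⁻¹ = v'⁻¹ * (x * (u * v * u⁻¹) * x⁻¹) := by simp only [hδ, hv']; group
        _ = v'⁻¹ * (u⁻¹ * v' * u) := by rw [hflip x hx hxQ v hv.1]
        _ = (δ w)⁻¹ := by simp only [hδ, hw]; group
    rw [e1]
    exact U.inv_mem ⟨w, hwV, rfl⟩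
  have hUne : ∀ x ∈ (S : Subgroup G), x ∉ Q → ∃ e ∈ U, x * e * x⁻¹ ≠ e := by
    intro x hx hxQ
    by_contra hc
    push Not at hc
    have hU1 : ∀ e ∈ U, e = 1 := fun e he =>
      hUfix e he (hkey x hx hxQ e (hUV e he).1 (hc e he) (hc _ (hUu e he)))
    refine huC (mem_centralizer_iff.2 fun q hq => ?_)
    have := hδq q
    rw [hU1 _ (hδU q hq), mul_one] at this
    exact (mul_inv_eq_iff_eq_mul.1 this).symm
  have hC : ∀ x ∈ (S : Subgroup G), (x ∈ centralizer (U : Set G) ↔ x ∈ Q) := by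
    intro x hx
    refine ⟨fun h => ?_, fun h => mem_centralizer_iff.2 fun e he => (hQU e he x h).symm⟩
    by_contra hxQ
    obtain ⟨e, he, hne⟩ := hUne x hx hxQ
    exact hne (by rw [← mem_centralizer_iff.1 h e he, mul_inv_cancel_right])
  refine ⟨U, ⟨fun e he => B.le (hUV e he).1.1, ?_, fun e he => (hUV e he).2, ?_, ?_, ?_⟩, ?_, u, huS, ?_⟩
  · intro x hx
    refine mem_normalizer_iff.2 fun e => ⟨hUS x hx e, fun he => ?_⟩
    simpa [mul_assoc] using hUS x⁻¹ (inv_mem hx) _ he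
  · intro x hx y hy hxC hyC
    rw [hC x hx] at hxC
    rw [hC y hy] at hyC
    exact (hC _ (mul_mem hx hy)).2 (htwo x hx y hy hxC hyC)
  · intro d hd hdC hdd
    have hdQ := (hC d hd).1 hdC
    refine hUfix _ hdd ?_
    set e := δ d with he
    have : u * (d * d) * u⁻¹ = d * d := by
      calc u * (d * d) * u⁻¹ = (u * d * u⁻¹) * (u * d * u⁻¹) := by group
        _ = d * e * (d * e) := by rw [hδq]
        _ = d * (e * d) * e := by group
        _ = d * (d * e) * e := by rw [Zof.comm (hδZ d hdQ) hdQ]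
        _ = d * d * (e * e) := by group
        _ = d * d := by rw [hδsq d hdQ, mul_one]
    exact mul_inv_eq_iff_eq_mul.1 this
  · intro T hTU hT2 hTS v hv w hw hv1 hw1
    have hfx : ∀ t ∈ T, s₀ * t * s₀⁻¹ = t := fun t ht => by
      rw [hTS t ht s₀ hs₀, mul_inv_cancel_right]
    have hout : ∀ t ∈ T, u * t * u⁻¹ ∈ T → t = 1 := fun t ht htu =>
      hUfix t (hTU ht) (hkey s₀ hs₀ hs₀Q t (hUV t (hTU ht)).1 (hfx t ht) (hfx _ htu))
    have hvw : v * w = 1 := by
      refine hout _ (T.mul_mem hv hw) ?_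
      have := hT2 _ (hUu v (hTU hv)) _ (hUu w (hTU hw)) (fun h => hv1 (hout v hv h)) (fun h => hw1 (hout w hw h))
      convert this using 1
      group
    calc v = v * (w * w) := by rw [(hUV w (hTU hw)).2, mul_one]
      _ = v * w * w := by group
      _ = w := by rw [hvw, one_mul]
  · intro hb
    obtain ⟨e, he, hne⟩ := hUne s₀ hs₀ hs₀Q
    rw [hb, mem_bot] at he
    exact hne (by rw [he]; group)
  · intro X hUX hXQ
    rw [mem_normalizer_iff_map_conj_eq]
    refine Subgroup.eq_of_le_of_card_ge ?_ (by rw [Subgroup.card_map_of_injective (MulAut.conj u).injective])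
    rintro _ ⟨x, hx, rfl⟩
    have hxQ : x ∈ Q := (hC x (hXQ hx).1).1 (hXQ hx).2
    show u * x * u⁻¹ ∈ X
    rw [hδq]
    exact X.mul_mem hx (hUX (hδU x hxQ))

end CfsgLib.OddGated29.ClassTwo
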