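import Cfsg.Agent.Lib.OddGated29.ClassTwoFour

/-!
# Non-commuting translates under automorphisms of odd order

A good subgroup commutes with all its translates under automorphisms of odd order that fix `S`.
-/

set_option autoImplicit false
set_option linter.all false

namespace CfsgLib.OddGated29.ClassTwo

open Subgroup
open scoped commutatorElement

variable {G : Type*} [Group G]

theorem centralizer_map_iff {U : Subgroup G} (φ : G ≃* G) {x : G} :
    φ x ∈ centralizer ((U.map φ.toMonoidHom : Subgroup G) : Set G) ↔ x ∈ centralizer (U : Set G) := by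
  constructor
  · intro h
    refine mem_centralizer_iff.2 fun v hv => φ.injective ?_
    rw [map_mul, map_mul]
    exact mem_centralizer_iff.1 h _ ⟨v, hv, rfl⟩
  · intro h
    refine mem_centralizer_iff.2 ?_
    rintro _ ⟨v, hv, rfl⟩
    show φ v * φ x = φ x * φ v
    rw [← map_mul, ← map_mul, mem_centralizer_iff.1 h v hv]

theorem Good.map {S U : Subgroup G} (h : Good S U) (φ : G ≃* G) (hS : S.map φ.toMonoidHom = S) :
    Good S (U.map φ.toMonoidHom) := by
  have hpre : ∀ x ∈ S, ∃ y ∈ S, φ y = x := fun x hx => by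
    rw [← hS] at hx; exact hx
  refine ⟨hS ▸ map_mono h.le, ?_, ?_, ?_, ?_, ?_⟩
  · rw [← hS]; exact (map_mono h.norm).trans (le_normalizer_map _)
  · rintro _ ⟨v, hv, rfl⟩
    show φ v * φ v = 1
    rw [← map_mul, h.sq v hv, map_one]
  · intro x hx y hy hxC hyC
    obtain ⟨a, ha, rfl⟩ := hpre x hx
    obtain ⟨b, hb, rfl⟩ := hpre y hy
    rw [centralizer_map_iff] at hxC hyC
    rw [← map_mul, centralizer_map_iff]
    exact h.two a ha b hb hxC hyC
  · intro d hd hdC hdd
    obtain ⟨a, ha, rfl⟩ := hpre d hd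
    rw [centralizer_map_iff] at hdC
    rw [← map_mul] at hdd ⊢
    rw [h.free a ha hdC ((Subgroup.mem_map_iff_mem φ.injective).1 hdd), map_one]
  · intro T hT hT2 hTS v hv w hw hv1 hw1
    obtain ⟨a, ha, rfl⟩ := hT hv
    obtain ⟨b, hb, rfl⟩ := hT hw
    refine congrArg φ (h.small (T.comap φ.toMonoidHom) ?_ ?_ ?_ a hv b hw
      (fun e => hv1 (by rw [e]; exact map_one φ)) (fun e => hw1 (by rw [e]; exact map_one φ)))
    · intro t ht
      exact (Subgroup.mem_map_iff_mem φ.injective).1 (hT ht)
    · intro x hx y hy hxT hyT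
      show φ (x * y) ∈ T
      rw [map_mul]
      exact hT2 _ ⟨x, hx, rfl⟩ _ ⟨y, hy, rfl⟩ hxT hyT
    · intro t ht s hs
      apply φ.injective
      rw [map_mul, map_mul]
      exact hTS _ ht _ (hS ▸ mem_map_of_mem φ.toMonoidHom hs)

/-- Non-commuting subgroups. -/
def Adj (U W : Subgroup G) : Prop := ¬ W ≤ centralizer (U : Set G)

theorem Adj.symm {U W : Subgroup G} (h : Adj U W) : Adj W U := fun h' => h (le_centralizer_iff.1 h')

theorem central_of_adj {S U W : Subgroup G} (hW : Good S W) (hU : Good S U) (h : Adj U W) {v : G}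
    (hv : v ∈ U) (hvW : v ∈ centralizer (W : Set G)) : ∀ s ∈ S, s * v = v * s := by
  intro s hs
  by_cases hsC : s ∈ centralizer (U : Set G)
  · exact (mem_centralizer_iff.1 hsC v hv).symm
  obtain ⟨w, hw, hwC⟩ := SetLike.not_le_iff_exists.1 h
  have h1 := mem_centralizer_iff.1 (hU.two s hs w (hW.le hw) hsC hwC) v hv
  have h2 := mem_centralizer_iff.1 hvW w hw
  calc s * v = s * (v * w) * w⁻¹ := by group
    _ = s * (w * v) * w⁻¹ := by rw [h2]
    _ = (s * w) * v * w⁻¹ := by group
    _ = v * (s * w) * w⁻¹ := by rw [h1]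
    _ = v * s := by group

theorem eq_of_central {S U W : Subgroup G} (hW : Good S W) (hU : Good S U) (h : Adj U W) {v w : G}
    (hv : v ∈ U) (hw : w ∈ U) (hvc : ∀ s ∈ S, s * v = v * s) (hwc : ∀ s ∈ S, s * w = w * s)
    (hv1 : v ≠ 1) (hw1 : w ≠ 1) : v = w := by
  refine hU.small (U ⊓ centralizer (W : Set G)) inf_le_left ?_ ?_ v ⟨hv, ?_⟩ w ⟨hw, ?_⟩ hv1 hw1
  · intro x hx y hy hxT hyT
    exact ⟨U.mul_mem hx hy, hW.two x (hU.le hx) y (hU.le hy) (fun h' => hxT ⟨hx, h'⟩) fun h' => hyT ⟨hy, h'⟩⟩
  · exact fun t ht => central_of_adj hW hU h ht.1 ht.2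
  · exact mem_centralizer_iff.2 fun x hx => hvc x (hW.le hx)
  · exact mem_centralizer_iff.2 fun x hx => hwc x (hW.le hx)

/-- A cycle of odd length cannot occur in the graph. -/
theorem false_of_odd_cycle {S : Subgroup G}
    (hcl : ∀ x ∈ S, ∀ y ∈ S, ∀ w ∈ S, w * ⁅x, y⁆ = ⁅x, y⁆ * w)
    (U : ℕ → Subgroup G) (hg : ∀ i, Good S (U i)) (hadj : ∀ i, Adj (U i) (U (i + 1))) {m : ℕ}
    (hm : Odd m) (hper : U m = U 0) : False := by
  -- a common central element
  have hz : ∀ i, ∃ y ∈ U i, ∃ w ∈ U (i + 1), y * w ≠ w * y := by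
    intro i
    obtain ⟨w, hw, hwC⟩ := SetLike.not_le_iff_exists.1 (hadj i)
    rw [mem_centralizer_iff] at hwC
    push Not at hwC
    obtain ⟨y, hy, hne⟩ := hwC
    exact ⟨y, hy, w, hw, hne⟩
  choose y hy w hw hne using hz
  set z : ℕ → G := fun i => ⁅y i, w i⁆ with hzdef
  have hzc : ∀ i, ∀ s ∈ S, s * z i = z i * s := fun i =>
    hcl _ ((hg i).le (hy i)) _ ((hg (i + 1)).le (hw i))
  have hz1 : ∀ i, z i ≠ 1 := fun i h => hne i (commutatorElement_eq_one_iff_mul_comm.1 h)
  have hz0 : ∀ i, z i ∈ U i := by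
    intro i
    have h1 : w i * (y i)⁻¹ * (w i)⁻¹ ∈ U i :=
      (mem_normalizer_iff.1 ((hg i).norm ((hg (i + 1)).le (hw i))) _).1 (inv_mem (hy i))
    have := mul_mem (hy i) h1
    rwa [← mul_assoc, ← mul_assoc] at this
  have hz2 : ∀ i, z i ∈ U (i + 1) := by
    intro i
    have h1 : y i * w i * (y i)⁻¹ ∈ U (i + 1) :=
      (mem_normalizer_iff.1 ((hg (i + 1)).norm ((hg i).le (hy i))) _).1 (hw i)
    exact mul_mem h1 (inv_mem (hw i))
  have hconst : ∀ i, z i = z 0 := by
    intro i
    induction i with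
    | zero => rfl
    | succ i ih =>
      rw [← ih]
      exact eq_of_central (hg (i + 1 + 1)) (hg (i + 1)) (hadj (i + 1)) (hz0 (i + 1)) (hz2 i)
        (hzc _) (hzc i) (hz1 _) (hz1 i)
  -- adjacency to the first vertex alternates
  have key : ∀ i, Adj (U 0) (U (i + 1)) ↔ ¬ Adj (U 0) (U i) := by
    intro i
    have hyS := (hg i).le (hy i)
    have hwS := (hg (i + 1)).le (hw i)
    have side : ∀ (j : ℕ) (a b : G), a ∈ U j → b ∈ S → a * b ≠ b * a →
        (a ∈ centralizer (U 0 : Set G) ↔ ¬ Adj (U 0) (U j)) := by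
      intro j a b ha hb hab
      refine ⟨fun haC hadj' => hab ?_, fun h => (not_not.1 h) ha⟩
      exact (central_of_adj (hg 0) (hg j) hadj'.symm ha haC b hb).symm
    have hY := side i (y i) (w i) (hy i) hwS (hne i)
    have hW := side (i + 1) (w i) (y i) (hw i) hyS (fun h => hne i h.symm)
    have hnot : y i * w i ∉ centralizer (U 0 : Set G) := by
      intro hC
      have hsq : y i * w i * (y i * w i) = z i := by
        simp only [hzdef, commutatorElement_def]
        rw [inv_eq_of_mul_eq_one_right ((hg i).sq _ (hy i)),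
          inv_eq_of_mul_eq_one_right ((hg (i + 1)).sq _ (hw i))]
        group
      have := (hg 0).free _ (mul_mem hyS hwS) hC (by rw [hsq, hconst i]; exact hz0 0)
      rw [hsq] at this
      exact hz1 i this
    constructor
    · intro hA hB
      exact hnot ((hg 0).two _ hyS _ hwS (fun h => hY.1 h hB) (fun h => hW.1 h hA))
    · intro hB
      by_contra hA
      exact hnot (mul_mem (hY.2 hB) (hW.2 hA))
  have halt : ∀ i, Adj (U 0) (U i) ↔ Odd i := by
    intro i
    induction i with
    | zero =>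
      refine ⟨fun h => ?_, fun h => absurd h (by decide)⟩
      exfalso
      refine h fun a ha => ?_
      by_contra hC
      refine hC ?_
      refine mem_centralizer_iff.2 fun b hb => ?_
      calc b * a = b * a * ((a * b) * (a * b)) := by rw [(hg 0).sq _ (mul_mem ha hb), mul_one]
        _ = b * (a * a) * b * a * b := by group
        _ = b * b * a * b := by rw [(hg 0).sq a ha]; group
        _ = a * b := by rw [(hg 0).sq b hb]; group
    | succ i ih => rw [key, ih, Nat.odd_add_one]
  exact (halt 0).not.2 (by decide) (hper ▸ (halt m).2 hm)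

theorem commute_translate [Finite G] {S U : Subgroup G}
    (hcl : ∀ x ∈ S, ∀ y ∈ S, ∀ w ∈ S, w * ⁅x, y⁆ = ⁅x, y⁆ * w) (hU : Good S U) (a : G ≃* G)
    (hS : S.map a.toMonoidHom = S) {m : ℕ} (hm : Odd m) (ham : (a : MulAut G) ^ m = 1) :
    U.map a.toMonoidHom ≤ centralizer (U : Set G) := by
  by_contra h
  let f : ℕ → Subgroup G := fun i => (fun W => W.map a.toMonoidHom)^[i] U
  have hf : ∀ i, f i = U.map ((a : MulAut G) ^ i).toMonoidHom := by
    intro i
    induction i with
    | zero =>
      show U = U.map (MulEquiv.refl G).toMonoidHom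
      exact (Subgroup.map_id U).symm
    | succ i ih =>
      show (fun W => W.map a.toMonoidHom)^[i + 1] U = _
      rw [Function.iterate_succ_apply', show (fun W => W.map a.toMonoidHom)^[i] U = f i from rfl, ih,
        Subgroup.map_map, pow_succ']
      rfl
  have hgood : ∀ i, Good S (f i) := by
    intro i
    induction i with
    | zero => exact hU
    | succ i ih =>
      show Good S ((fun W => W.map a.toMonoidHom)^[i + 1] U)
      rw [Function.iterate_succ_apply']
      exact Good.map ih a hS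
  have hadj : ∀ i, Adj (f i) (f (i + 1)) := by
    intro i
    induction i with
    | zero => exact h
    | succ i ih =>
      intro hle
      apply ih
      intro x hx
      refine (centralizer_map_iff a).1 ?_
      have e : ∀ j, f (j + 1) = (f j).map a.toMonoidHom := fun j => Function.iterate_succ_apply' _ j U
      rw [← e]
      exact hle (by rw [e]; exact mem_map_of_mem _ hx)
  refine false_of_odd_cycle hcl f hgood hadj hm ?_
  rw [hf m, ham, hf 0, pow_zero]

end CfsgLib.OddGated29.ClassTwo
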