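import Cfsg.Agent.Lib.OddGated29.ClassTwoBase

/-!
# The largest bad subgroup has index two

Here `S` is a self-normalising Sylow two-subgroup of class at most two.
-/

set_option autoImplicit false
set_option linter.all false

namespace CfsgLib.OddGated29.ClassTwo

open Subgroup
open scoped commutatorElement

variable {G : Type*} [Group G]

/-- The centre of `Q`, as a subgroup of `G`. -/
def Zof (Q : Subgroup G) : Subgroup G := Q ⊓ centralizer (Q : Set G)

theorem Zof.comm {Q : Subgroup G} {a b : G} (ha : a ∈ Zof Q) (hb : b ∈ Q) : b * a = a * b :=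
  mem_centralizer_iff.1 ha.2 b hb

/-- The involutions of the centre of `Q` with the identity. -/
def Vof (Q : Subgroup G) : Subgroup G where
  carrier := {v | v ∈ Zof Q ∧ v * v = 1}
  one_mem' := ⟨one_mem _, by simp⟩
  mul_mem' := by
    rintro a b ⟨ha, ha2⟩ ⟨hb, hb2⟩
    refine ⟨mul_mem ha hb, ?_⟩
    calc a * b * (a * b) = a * (b * a) * b := by group
      _ = a * (a * b) * b := by rw [Zof.comm ha hb.1]
      _ = (a * a) * (b * b) := by group
      _ = 1 := by rw [ha2, hb2, one_mul]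
  inv_mem' := by
    rintro a ⟨ha, ha2⟩
    exact ⟨inv_mem ha, by rw [← mul_inv_rev, ha2, inv_one]⟩

theorem conj_mem_Q {Q : Subgroup G} {h q : G} (hh : h ∈ normalizer (Q : Set G)) (hq : q ∈ Q) :
    h * q * h⁻¹ ∈ Q :=
  (mem_normalizer_iff.1 hh q).1 hq

theorem conj_mem_Zof {Q : Subgroup G} {h z : G} (hh : h ∈ normalizer (Q : Set G)) (hz : z ∈ Zof Q) :
    h * z * h⁻¹ ∈ Zof Q := by
  refine ⟨conj_mem_Q hh hz.1, mem_centralizer_iff.2 fun q hq => ?_⟩
  have hq' : h⁻¹ * q * h ∈ Q := by simpa using conj_mem_Q (inv_mem hh) hq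
  calc q * (h * z * h⁻¹) = h * ((h⁻¹ * q * h) * z) * h⁻¹ := by group
    _ = h * (z * (h⁻¹ * q * h)) * h⁻¹ := by rw [Zof.comm hz hq']
    _ = h * z * h⁻¹ * q := by group

theorem conj_mem_Vof {Q : Subgroup G} {h v : G} (hh : h ∈ normalizer (Q : Set G)) (hv : v ∈ Vof Q) :
    h * v * h⁻¹ ∈ Vof Q :=
  ⟨conj_mem_Zof hh hv.1, by
    calc h * v * h⁻¹ * (h * v * h⁻¹) = h * (v * v) * h⁻¹ := by group
      _ = 1 := by rw [hv.2]; group⟩

/-- The elements acting trivially on `Q` modulo its centre. -/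
def Tof (Q : Subgroup G) : Subgroup G where
  carrier := {h | h ∈ normalizer (Q : Set G) ∧ ∀ q ∈ Q, q⁻¹ * (h * q * h⁻¹) ∈ Zof Q}
  one_mem' := ⟨one_mem _, fun q _ => by simp⟩
  mul_mem' := by
    rintro a b ⟨ha, ha2⟩ ⟨hb, hb2⟩
    refine ⟨mul_mem ha hb, fun q hq => ?_⟩
    have e : q⁻¹ * (a * b * q * (a * b)⁻¹)
        = (q⁻¹ * (a * q * a⁻¹)) * (a * (q⁻¹ * (b * q * b⁻¹)) * a⁻¹) := by group
    rw [e]
    exact mul_mem (ha2 q hq) (conj_mem_Zof ha (hb2 q hq))
  inv_mem' := by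
    rintro a ⟨ha, ha2⟩
    refine ⟨inv_mem ha, fun q hq => ?_⟩
    have e : q⁻¹ * (a⁻¹ * q * a⁻¹⁻¹) = a⁻¹ * (q⁻¹ * (a * q * a⁻¹))⁻¹ * a⁻¹⁻¹ := by group
    rw [e]
    exact conj_mem_Zof (inv_mem ha) (inv_mem (ha2 q hq))

theorem conj_mem_Tof {Q : Subgroup G} {g h : G} (hg : g ∈ normalizer (Q : Set G)) (hh : h ∈ Tof Q) :
    g * h * g⁻¹ ∈ Tof Q := by
  refine ⟨mul_mem (mul_mem hg hh.1) (inv_mem hg), fun q hq => ?_⟩
  have hq' : g⁻¹ * q * g ∈ Q := by simpa using conj_mem_Q (inv_mem hg) hq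
  have := conj_mem_Zof hg (hh.2 _ hq')
  convert this using 1
  group

/-- The elements acting trivially on `Q` modulo its centre and on the central involutions of `Q`. -/
def Kof (Q : Subgroup G) : Subgroup G := Tof Q ⊓ centralizer (Vof Q : Set G)

theorem Kof_le (Q : Subgroup G) : Kof Q ≤ normalizer (Q : Set G) := fun _ h => h.1.1

theorem centralizer_le_Kof (Q : Subgroup G) : centralizer (Q : Set G) ≤ Kof Q := fun c hc =>
  ⟨⟨centralizer_le_normalizer _ hc, fun q hq => by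
      rw [← mem_centralizer_iff.1 hc q hq, mul_inv_cancel_right, inv_mul_cancel]
      exact one_mem _⟩,
    mem_centralizer_iff.2 fun v hv => mem_centralizer_iff.1 hc v hv.1.1⟩

theorem le_normalizer_Kof (Q : Subgroup G) :
    normalizer (Q : Set G) ≤ normalizer (Kof Q : Set G) := by
  intro g hg
  have key : ∀ g ∈ normalizer (Q : Set G), ∀ h ∈ Kof Q, g * h * g⁻¹ ∈ Kof Q := by
    intro g hg h hh
    refine ⟨conj_mem_Tof hg hh.1, mem_centralizer_iff.2 fun v hv => ?_⟩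
    have hv' : g⁻¹ * v * g ∈ Vof Q := by simpa using conj_mem_Vof (inv_mem hg) hv
    calc v * (g * h * g⁻¹) = g * ((g⁻¹ * v * g) * h) * g⁻¹ := by group
      _ = g * (h * (g⁻¹ * v * g)) * g⁻¹ := by rw [mem_centralizer_iff.1 hh.2 _ hv']
      _ = g * h * g⁻¹ * v := by group
  refine mem_normalizer_iff.2 fun h => ⟨key g hg h, fun hh => ?_⟩
  simpa [mul_assoc] using key g⁻¹ (inv_mem hg) _ hh

variable [Finite G]

/-- An element of odd order in `Kof Q` centralises the centre of `Q`. -/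
theorem commute_of_fix_invol {Q : Subgroup G} (hQ : IsPGroup 2 Q) {h : G}
    (hh : h ∈ Kof Q) (hodd : Odd (orderOf h)) :
    ∀ (k : ℕ) (z : G), z ∈ Zof Q → z ^ 2 ^ k = 1 → h * z = z * h := by
  intro k
  induction k with
  | zero => intro z _ hz; rw [pow_zero, pow_one] at hz; simp [hz]
  | succ k ih =>
    intro z hz hzk
    have hz2 := ih (z * z) (mul_mem hz hz) (by rw [← sq, ← pow_mul, ← pow_succ']; exact hzk)
    set f := z⁻¹ * (h * z * h⁻¹) with hf
    have hfZ : f ∈ Zof Q := mul_mem (inv_mem hz) (conj_mem_Zof hh.1.1 hz)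
    have hcm : h * z * h⁻¹ * z⁻¹ = z⁻¹ * (h * z * h⁻¹) :=
      (Zof.comm (inv_mem hz) (conj_mem_Zof hh.1.1 hz).1)
    have hff : f * f = 1 := by
      calc f * f = z⁻¹ * (h * z * h⁻¹) * (z⁻¹ * (h * z * h⁻¹)) := rfl
        _ = z⁻¹ * (h * z * h⁻¹ * z⁻¹) * (h * z * h⁻¹) := by group
        _ = z⁻¹ * (z⁻¹ * (h * z * h⁻¹)) * (h * z * h⁻¹) := by rw [hcm]
        _ = z⁻¹ * z⁻¹ * (h * (z * z) * h⁻¹) := by group
        _ = 1 := by rw [hz2]; group
    have hfix : h * f = f * h := (mem_centralizer_iff.1 hh.2 f ⟨hfZ, hff⟩).symm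
    have h1 : f = 1 :=
      eq_one_of_iter hodd (q := z) (by rw [hf]; group) hfix (k := 1) (by rw [pow_one, sq, hff])
    rw [hf, inv_mul_eq_one] at h1
    nth_rw 2 [h1]
    group

/-- An element of odd order in `Kof Q` centralises `Q`. -/
theorem mem_centralizer_of_odd {Q : Subgroup G} (hQ : IsPGroup 2 Q) {h : G}
    (hh : h ∈ Kof Q) (hodd : Odd (orderOf h)) : h ∈ centralizer (Q : Set G) := by
  refine mem_centralizer_iff.2 fun q hq => ?_
  set f := q⁻¹ * (h * q * h⁻¹) with hf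
  have hfZ : f ∈ Zof Q := hh.1.2 q hq
  obtain ⟨k, hk⟩ := hQ ⟨f, hfZ.1⟩
  have hk' : f ^ 2 ^ k = 1 := congrArg Subtype.val hk
  have hfix := commute_of_fix_invol hQ hh hodd k f hfZ hk'
  have h1 : f = 1 := eq_one_of_iter hodd (q := q) (by rw [hf]; group) hfix hk'
  rw [hf, inv_mul_eq_one] at h1
  nth_rw 1 [h1]
  group

/-- The hypotheses on the Sylow subgroup. -/
structure Hyp (S : Sylow 2 G) : Prop where
  cl : ∀ x ∈ (S : Subgroup G), ∀ y ∈ (S : Subgroup G), ∀ w ∈ (S : Subgroup G), w * ⁅x, y⁆ = ⁅x, y⁆ * w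
  selfNorm : normalizer ((S : Subgroup G) : Set G) ≤ (S : Subgroup G)

variable {S : Sylow 2 G} {Q : Subgroup G}

theorem Base.comm_mem (B : Base S Q) (H : Hyp S) {x y : G} (hx : x ∈ (S : Subgroup G))
    (hy : y ∈ (S : Subgroup G)) : ⁅x, y⁆ ∈ Zof Q := by
  have hc : ⁅x, y⁆ ∈ centralizer (Q : Set G) :=
    mem_centralizer_iff.2 fun q hq => H.cl x hx y hy q (B.le hq)
  refine ⟨B.cent _ ?_ hc, hc⟩
  rw [commutatorElement_def]
  exact mul_mem (mul_mem (mul_mem hx hy) (inv_mem hx)) (inv_mem hy)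

theorem Base.le_Tof (B : Base S Q) (H : Hyp S) : (S : Subgroup G) ≤ Tof Q := fun x hx =>
  ⟨B.norm hx, fun q hq => by
    have h := B.comm_mem H (inv_mem (B.le hq)) hx
    rw [commutatorElement_def, inv_inv] at h
    simpa [mul_assoc] using h⟩

theorem Base.self_le_Kof (B : Base S Q) (H : Hyp S) : Q ≤ Kof Q := fun c hc =>
  ⟨B.le_Tof H (B.le hc), mem_centralizer_iff.2 fun v hv => (Zof.comm hv.1 hc).symm⟩

/-- Squares of elements of `S` lie in `Kof Q`. -/
theorem Base.sq_mem_Kof (B : Base S Q) (H : Hyp S) {x : G} (hx : x ∈ (S : Subgroup G)) :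
    x * x ∈ Kof Q := by
  refine ⟨mul_mem (B.le_Tof H hx) (B.le_Tof H hx), mem_centralizer_iff.2 fun v hv => ?_⟩
  have hvS : v ∈ (S : Subgroup G) := B.le hv.1.1
  set c := ⁅x, v⁆ with hc
  have hcc : ∀ w ∈ (S : Subgroup G), w * c = c * w := H.cl x hx v hvS
  have e1 : x * v * x⁻¹ = c * v := by rw [hc, commutatorElement_def]; group
  have hc2 : c * c = 1 := by
    calc c * c = c * c * (v * v) := by rw [hv.2, mul_one]
      _ = c * (c * v) * v := by group
      _ = c * (v * c) * v := by rw [hcc v hvS]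
      _ = (c * v) * (c * v) := by group
      _ = x * (v * v) * x⁻¹ := by rw [← e1]; group
      _ = 1 := by rw [hv.2]; group
  have e2 : x * x * v * (x * x)⁻¹ = v := by
    calc x * x * v * (x * x)⁻¹ = x * (x * v * x⁻¹) * x⁻¹ := by group
      _ = x * (c * v) * x⁻¹ := by rw [e1]
      _ = (x * c) * x⁻¹ * (x * v * x⁻¹) := by group
      _ = c * (x * v * x⁻¹) := by rw [hcc x hx]; group
      _ = c * c * v := by rw [e1]; group
      _ = v := by rw [hc2, one_mul]
  exact (mul_inv_eq_iff_eq_mul.1 e2).symm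

theorem Base.lift (B : Base S Q) {R : Subgroup G} (hR : IsPGroup 2 R) (hQR : Q ≤ R) {k : G}
    (hkN : k ∈ normalizer (Q : Set G)) (hkR : k ∈ normalizer (R : Set G))
    (hk : ∀ a : ℕ, k ^ 2 ^ a ∉ Kof Q) : R = Q := by
  obtain ⟨a, ha⟩ := exists_odd_pow k
  have hbad := bad_of_image hR hQR (pow_mem hkR (2 ^ a)) ha (fun h => hk a (centralizer_le_Kof Q h))
  exact (Subgroup.eq_of_le_of_card_ge hQR (B.max R hbad)).symm

/-- The two-elements of `Kof Q` in `S` are those of `Q`. -/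
theorem Base.inf_Kof (B : Base S Q) (H : Hyp S) : (S : Subgroup G) ⊓ Kof Q = Q := by
  obtain ⟨hQp, u, huN, hodd, huC⟩ := B.bad
  obtain ⟨n, hnK, hn⟩ := frattini_ex (Kof_le Q) (le_normalizer_Kof Q) (S.subtype B.norm) huN
  have hmap : (S.subtype B.norm : Subgroup ↥(normalizer (Q : Set G))).map
      (normalizer (Q : Set G)).subtype = S := by
    rw [Sylow.coe_subtype, subgroupOf_map_subtype, inf_eq_left.2 B.norm]
  rw [hmap] at hn
  refine B.lift (S.2.to_le inf_le_left) (le_inf B.le (B.self_le_Kof H))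
    (mul_mem (Kof_le Q hnK) huN) hn fun a ha => ?_
  set N := normalizer (Q : Set G) with hN
  haveI : ((Kof Q).subgroupOf N).Normal :=
    (normal_subgroupOf_iff_le_normalizer (Kof_le Q)).2 (le_normalizer_Kof Q)
  let π := QuotientGroup.mk' ((Kof Q).subgroupOf N)
  have hnN : n ∈ N := Kof_le Q hnK
  have h0 : π (⟨n, hnN⟩ : N) = 1 := (QuotientGroup.eq_one_iff _).2 hnK
  have h1 : π ((⟨n, hnN⟩ * ⟨u, huN⟩ : N) ^ 2 ^ a) = 1 := (QuotientGroup.eq_one_iff _).2 ha
  rw [map_pow, map_mul, h0, one_mul] at h1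
  refine pow_two_pow_ne_one (hodd.of_dvd_nat ((orderOf_map_dvd π _).trans (by rw [Subgroup.orderOf_mk])))
    (fun e => huC (mem_centralizer_of_odd hQp ?_ hodd)) a h1
  exact (QuotientGroup.eq_one_iff (N := (Kof Q).subgroupOf N) (⟨u, huN⟩ : N)).1 e

/-- Elements of `Kof Q` centralise the centre of `Q`. -/
theorem Base.commute_Zof (B : Base S Q) (H : Hyp S) {n z : G} (hn : n ∈ Kof Q) (hz : z ∈ Zof Q) :
    n * z = z * n := by
  haveI : Fact (Nat.Prime 2) := ⟨Nat.prime_two⟩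
  have hQp := B.bad.1
  set C := centralizer (Zof Q : Set G) with hC
  suffices n ∈ C by exact (mem_centralizer_iff.1 this z hz).symm
  -- the odd part
  obtain ⟨a, m, hm, ham⟩ := Nat.exists_eq_pow_mul_and_not_dvd (orderOf_pos n).ne' 2 (by norm_num)
  have hmodd : Odd m := Nat.not_even_iff_odd.1 fun he => hm he.two_dvd
  have h1 : n ^ 2 ^ a ∈ C := by
    refine mem_centralizer_iff.2 fun w hw => ?_
    have hodd : Odd (orderOf (n ^ 2 ^ a)) := hmodd.of_dvd_nat
      (orderOf_dvd_of_pow_eq_one (by rw [← pow_mul, ← ham, pow_orderOf_eq_one]))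
    exact mem_centralizer_iff.1 (mem_centralizer_of_odd hQp (pow_mem hn _) hodd) w hw.1
  have h2 : n ^ m ∈ C := by
    set N := normalizer (Q : Set G) with hN
    set K := (Kof Q).subgroupOf N with hK
    haveI : K.Normal := (normal_subgroupOf_iff_le_normalizer (Kof_le Q)).2 (le_normalizer_Kof Q)
    haveI : (Q.subgroupOf N).Normal := (normal_subgroupOf_iff_le_normalizer le_normalizer).2 le_rfl
    set T := S.subtype B.norm with hT
    have hnd : ¬ 2 ∣ (T : Subgroup N).relIndex K := fun hd =>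
      T.not_dvd_index (hd.trans (CfsgLib.HallGen.relIndex_dvd_index_right _ _))
    let T' : Sylow 2 K := (T.2.comap_subtype).toSylow hnd
    let x : K := ⟨⟨n ^ m, pow_mem (Kof_le Q hn) m⟩, show n ^ m ∈ Kof Q from pow_mem hn m⟩
    have hx : IsPGroup 2 (zpowers x) := by
      rintro ⟨y, hy⟩
      obtain ⟨i, rfl⟩ := mem_zpowers_iff.1 hy
      refine ⟨a, Subtype.ext ?_⟩
      have e : x ^ 2 ^ a = 1 := Subtype.ext (Subtype.ext (by
        show (n ^ m) ^ 2 ^ a = 1
        rw [← pow_mul, mul_comm, ← ham, pow_orderOf_eq_one]))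
      rw [SubgroupClass.coe_pow, OneMemClass.coe_one, ← _root_.zpow_natCast, ← _root_.zpow_mul, mul_comm,
        _root_.zpow_mul, _root_.zpow_natCast, e, _root_.one_zpow]
    obtain ⟨P, hP⟩ := hx.exists_le_sylow
    obtain ⟨g, hg⟩ := MulAction.exists_smul_eq K T' P
    have hxP : x ∈ (P : Subgroup K) := hP (mem_zpowers x)
    rw [← hg, Sylow.coe_subgroup_smul] at hxP
    obtain ⟨t, ht, htx⟩ := hxP
    have htQ : ((t : N) : G) ∈ Q := by
      rw [← B.inf_Kof H]
      exact ⟨ht, t.2⟩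
    refine mem_centralizer_iff.2 fun w hw => Zof.comm hw ?_ |>.symm
    have e : n ^ m = ((g : N) : G) * ((t : N) : G) * ((g : N) : G)⁻¹ :=
      (congrArg (fun y : K => ((y : N) : G)) htx).symm
    rw [e]
    exact conj_mem_Q (g : N).2 htQ
  obtain ⟨i, j, hij⟩ : ∃ i j : ℤ, i * (2 ^ a : ℕ) + j * (m : ℕ) = 1 := by
    have hc : IsCoprime ((2 ^ a : ℕ) : ℤ) (m : ℤ) :=
      Nat.isCoprime_iff_coprime.2 ((Nat.coprime_two_left.2 hmodd).pow_left a)
    obtain ⟨i, j, h⟩ := hc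
    exact ⟨i, j, h⟩
  have : n = (n ^ 2 ^ a) ^ i * (n ^ m) ^ j := by
    rw [← _root_.zpow_natCast n (2 ^ a), ← _root_.zpow_natCast n m, ← _root_.zpow_mul, ← _root_.zpow_mul,
      ← _root_.zpow_add, mul_comm _ i, mul_comm _ j, hij, _root_.zpow_one]
  rw [this]
  exact mul_mem (zpow_mem h1 i) (zpow_mem h2 j)

/-- The largest bad subgroup has index two and an element of odd order inverted modulo `Kof Q`. -/
theorem Base.index_two (B : Base S Q) (H : Hyp S) :
    (∀ x ∈ (S : Subgroup G), ∀ y ∈ (S : Subgroup G), x ∉ Q → y ∉ Q → x * y ∈ Q) ∧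
    (∃ x ∈ (S : Subgroup G), x ∉ Q) ∧
    ∃ u ∈ normalizer (Q : Set G), Odd (orderOf u) ∧ u ∉ Kof Q ∧
      ∀ x ∈ (S : Subgroup G), x ∉ Q → x * u * x⁻¹ * u ∈ Kof Q := by
  haveI : Fact (Nat.Prime 2) := ⟨Nat.prime_two⟩
  obtain ⟨hQp, u, huN, hodd, huC⟩ := B.bad
  have huK : u ∉ Kof Q := fun h => huC (mem_centralizer_of_odd hQp h hodd)
  set L := normalizer (Q : Set G) with hL
  set M := (Kof Q).subgroupOf L with hM
  haveI : M.Normal := (normal_subgroupOf_iff_le_normalizer (Kof_le Q)).2 (le_normalizer_Kof Q)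
  set π := QuotientGroup.mk' M with hπ
  have hsurj : Function.Surjective π := QuotientGroup.mk'_surjective M
  have hπ1 : ∀ x : L, π x = 1 ↔ (x : G) ∈ Kof Q := fun x => QuotientGroup.eq_one_iff x
  set T := S.subtype B.norm with hT
  have hTmap : (T : Subgroup L).map L.subtype = S := by
    rw [hT, Sylow.coe_subtype, subgroupOf_map_subtype, inf_eq_left.2 B.norm]
  have hTmem : ∀ x : L, x ∈ (T : Subgroup L) ↔ (x : G) ∈ (S : Subgroup G) := fun x => Iff.rfl
  have hker : ∀ x : L, x ∈ (T : Subgroup L) → π x = 1 → (x : G) ∈ Q := fun x hx h1 => by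
    rw [← B.inf_Kof H]; exact ⟨hx, (hπ1 x).1 h1⟩
  set P := T.mapSurjective hsurj with hP
  have hPc : (P : Subgroup (L ⧸ M)) = (T : Subgroup L).map π := Sylow.coe_mapSurjective hsurj T
  have hcomm : ∀ x ∈ (T : Subgroup L), ∀ y ∈ (T : Subgroup L), π x * π y = π y * π x := by
    intro x hx y hy
    rw [← commutatorElement_eq_one_iff_mul_comm, ← map_commutatorElement, hπ1]
    exact B.self_le_Kof H (B.comm_mem H hx hy).1
  have hsq : ∀ x ∈ (T : Subgroup L), π x * π x = 1 := fun x hx => by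
    rw [← map_mul, hπ1]; exact B.sq_mem_Kof H hx
  -- the Sylow subgroup of the quotient normalises only itself
  have hPN : normalizer ((P : Subgroup (L ⧸ M)) : Set (L ⧸ M)) ≤ (P : Subgroup (L ⧸ M)) := by
    intro q hq
    obtain ⟨g, rfl⟩ := hsurj q
    set P1 := (P : Subgroup (L ⧸ M)).comap π with hP1
    set L1 := (normalizer ((P : Subgroup (L ⧸ M)) : Set (L ⧸ M))).comap π with hL1
    have hP1L : P1 ≤ L1 := comap_mono le_normalizer
    have hL1n : L1 ≤ normalizer (P1 : Set L) := le_normalizer_comap π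
    have hTP1 : (T : Subgroup L) ≤ P1 := fun x hx => by
      rw [hP1, mem_comap, hPc]; exact mem_map_of_mem π hx
    obtain ⟨n, hn, hng⟩ := frattini_ex hP1L hL1n (T.subtype (hTP1.trans hP1L))
      (show g ∈ L1 from hq)
    rw [Sylow.coe_subtype, subgroupOf_map_subtype, inf_eq_left.2 (hTP1.trans hP1L),
      inf_eq_left.2 hTP1] at hng
    have hngS : ((n * g : L) : G) ∈ (S : Subgroup G) := by
      refine H.selfNorm ?_
      rw [← hTmap]
      exact le_normalizer_map L.subtype ⟨_, hng, rfl⟩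
    have h2 : π (n * g) ∈ (P : Subgroup (L ⧸ M)) := hTP1 hngS
    rw [map_mul] at h2
    exact ((P : Subgroup (L ⧸ M)).mul_mem_cancel_left hn).1 h2
  have hPC : normalizer ((P : Subgroup (L ⧸ M)) : Set (L ⧸ M)) ≤ centralizer ((P : Subgroup (L ⧸ M)) : Set (L ⧸ M)) := by
    intro q hq
    have hqP := hPN hq
    rw [hPc] at hqP
    obtain ⟨x, hx, rfl⟩ := hqP
    refine mem_centralizer_iff.2 fun r hr => ?_
    rw [SetLike.mem_coe, hPc] at hr
    obtain ⟨y, hy, rfl⟩ := hr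
    exact hcomm y hy x hx
  set ψ := MonoidHom.transferSylow P hPC with hψ
  set K := ψ.ker with hK
  have hKodd : Odd (Nat.card K) := Nat.not_even_iff_odd.1 fun he =>
    MonoidHom.not_dvd_card_ker_transferSylow P hPC he.two_dvd
  have huo : Odd (orderOf (π ⟨u, huN⟩)) :=
    hodd.of_dvd_nat ((orderOf_map_dvd π _).trans (by rw [Subgroup.orderOf_mk]))
  have huK' : π ⟨u, huN⟩ ∈ K := by
    rw [hK, MonoidHom.mem_ker]
    obtain ⟨k, hk⟩ := P.2 (ψ (π ⟨u, huN⟩))
    refine eq_one_of_pow_odd huo ?_ hk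
    rw [← map_pow, pow_orderOf_eq_one, map_one]
  have hune : π ⟨u, huN⟩ ≠ 1 := fun h => huK ((hπ1 _).1 h)
  have hKne : ∀ k ∈ K, k * k = 1 → k = 1 := by
    intro k hk h2
    refine eq_one_of_pow_odd hKodd ?_ (k := 1) (by rw [pow_one, sq, h2])
    exact congrArg Subtype.val (pow_card_eq_one' (x := (⟨k, hk⟩ : K)))
  -- no element outside `Q` centralises a nontrivial element of `K`
  have hfpf : ∀ x ∈ (T : Subgroup L), (x : G) ∉ Q → ∀ k ∈ K, π x * k = k * π x → k = 1 := by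
    intro x hx hxQ k hk hxk
    by_contra hk1
    obtain ⟨g, rfl⟩ := hsurj k
    set P1 := (zpowers (π x)).comap π with hP1
    have hgP : g ∈ normalizer (P1 : Set L) := by
      refine le_normalizer_comap π (centralizer_le_normalizer _ ?_)
      refine mem_centralizer_iff.2 fun r hr => ?_
      obtain ⟨i, rfl⟩ := mem_zpowers_iff.1 hr
      exact (Commute.zpow_left hxk i).eq
    have hTP : (T : Subgroup L) ≤ normalizer (P1 : Set L) := by
      intro y hy
      refine le_normalizer_comap π (centralizer_le_normalizer _ ?_)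
      refine mem_centralizer_iff.2 fun r hr => ?_
      obtain ⟨i, rfl⟩ := mem_zpowers_iff.1 hr
      exact (Commute.zpow_left (hcomm x hx y hy) i).eq
    obtain ⟨n, hn, hng⟩ := frattini_ex le_normalizer le_rfl (T.subtype hTP) hgP
    rw [Sylow.coe_subtype, subgroupOf_map_subtype, inf_eq_left.2 hTP] at hng
    set R := ((T : Subgroup L) ⊓ P1).map L.subtype with hR
    have hxR : (x : G) ∈ R := ⟨x, ⟨hx, mem_zpowers _⟩, rfl⟩
    have hQR : Q ≤ R := fun q hq => ⟨⟨q, le_normalizer hq⟩, ⟨B.le hq, by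
      show π _ ∈ zpowers (π x)
      rw [(hπ1 ⟨q, le_normalizer hq⟩).2 (B.self_le_Kof H hq)]
      exact one_mem _⟩, rfl⟩
    have hRQ : R = Q := by
      refine B.lift (R := R) ((T.2.to_le inf_le_left).map _) hQR (k := (((n * g) ^ 2 : L) : G))
        ((n * g) ^ 2).2 ?_ ?_
      · exact le_normalizer_map L.subtype ⟨_, pow_mem hng 2, rfl⟩
      intro a ha
      have h1 : π (((n * g) ^ 2) ^ 2 ^ a) = 1 := (hπ1 _).2 (by simpa using ha)
      obtain ⟨i, hi⟩ := mem_zpowers_iff.1 (show π n ∈ zpowers (π x) from hn)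
      have hng2 : π ((n * g) ^ 2) = π g ^ 2 := by
        rw [map_pow, map_mul, ← hi, (Commute.zpow_left hxk i).mul_pow, ← _root_.zpow_natCast, ← _root_.zpow_mul,
          mul_comm, _root_.zpow_mul, _root_.zpow_natCast, sq, hsq x hx, _root_.one_zpow, one_mul]
      rw [map_pow, hng2, ← pow_mul, ← pow_succ'] at h1
      exact pow_two_pow_ne_one (hKodd.of_dvd_nat (Subgroup.orderOf_dvd_natCard K hk)) hk1 _ h1
    exact hxQ (hRQ.le hxR)
  have hinv : ∀ x ∈ (T : Subgroup L), (x : G) ∉ Q → ∀ k ∈ K, π x * k * (π x)⁻¹ = k⁻¹ := by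
    intro x hx hxQ k hk
    set a := π x with ha
    have ha2 : a * a = 1 := hsq x hx
    have hai : a⁻¹ = a := inv_eq_of_mul_eq_one_right ha2
    let f : K → K := fun j => ⟨(j : L ⧸ M)⁻¹ * (a * j * a⁻¹),
      K.mul_mem (K.inv_mem j.2) ((inferInstance : K.Normal).conj_mem _ j.2 a)⟩
    have hf : Function.Injective f := by
      intro i j hij
      have e : (i : L ⧸ M)⁻¹ * (a * i * a⁻¹) = (j : L ⧸ M)⁻¹ * (a * j * a⁻¹) := congrArg Subtype.val hij
      have h2 : a * ((i : L ⧸ M) * (j : L ⧸ M)⁻¹) = (i : L ⧸ M) * (j : L ⧸ M)⁻¹ * a := by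
        calc a * ((i : L ⧸ M) * (j : L ⧸ M)⁻¹)
            = (i : L ⧸ M) * ((i : L ⧸ M)⁻¹ * (a * i * a⁻¹)) * (a * (j : L ⧸ M)⁻¹ * a⁻¹) * a := by group
          _ = (i : L ⧸ M) * ((j : L ⧸ M)⁻¹ * (a * j * a⁻¹)) * (a * (j : L ⧸ M)⁻¹ * a⁻¹) * a := by rw [e]
          _ = _ := by group
      exact Subtype.ext (mul_inv_eq_one.1 (hfpf x hx hxQ _ (K.mul_mem i.2 (K.inv_mem j.2)) h2))
    obtain ⟨j, hj⟩ := Finite.surjective_of_injective hf ⟨k, hk⟩
    have e : (j : L ⧸ M)⁻¹ * (a * j * a⁻¹) = k := congrArg Subtype.val hj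
    rw [← e, mul_inv_rev, mul_inv_rev, mul_inv_rev, inv_inv, inv_inv, hai]
    calc a * ((j : L ⧸ M)⁻¹ * (a * j * a)) * a = a * (j : L ⧸ M)⁻¹ * a * j * (a * a) := by group
      _ = a * (j : L ⧸ M)⁻¹ * a * j := by rw [ha2, mul_one]
      _ = _ := by group
  refine ⟨fun x hx y hy hxQ hyQ => ?_, ?_, u, huN, hodd, huK, fun x hx hxQ => ?_⟩
  · by_contra hxy
    let x' : L := ⟨x, B.norm hx⟩
    let y' : L := ⟨y, B.norm hy⟩
    have h1 := hinv x' hx hxQ
    have h2 := hinv y' hy hyQ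
    have h3 := hinv (x' * y') ((T : Subgroup L).mul_mem hx hy) hxy _ huK'
    have h4 : π (x' * y') * π ⟨u, huN⟩ * (π (x' * y'))⁻¹ = π ⟨u, huN⟩ := by
      calc π (x' * y') * π ⟨u, huN⟩ * (π (x' * y'))⁻¹
          = π x' * (π y' * π ⟨u, huN⟩ * (π y')⁻¹) * (π x')⁻¹ := by rw [map_mul]; group
        _ = π x' * (π ⟨u, huN⟩)⁻¹ * (π x')⁻¹ := by rw [h2 _ huK']
        _ = π ⟨u, huN⟩ := by rw [h1 _ (K.inv_mem huK'), inv_inv]
    rw [h4] at h3
    exact hune (hKne _ huK' (by nth_rw 2 [h3]; rw [mul_inv_cancel]))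
  · by_contra hne
    push Not at hne
    have hPb : (P : Subgroup (L ⧸ M)) = ⊥ := by
      rw [hPc, eq_bot_iff]
      rintro _ ⟨x, hx, rfl⟩
      exact (hπ1 x).2 (B.self_le_Kof H (hne x hx))
    have := hPN (x := π ⟨u, huN⟩) (by rw [hPb, normalizer_eq_top_iff.2 inferInstance]; exact mem_top _)
    rw [hPb, mem_bot] at this
    exact hune this
  · have h := hinv ⟨x, B.norm hx⟩ hx hxQ _ huK'
    refine (hπ1 (⟨x, B.norm hx⟩ * ⟨u, huN⟩ * ⟨x, B.norm hx⟩⁻¹ * ⟨u, huN⟩ : L)).1 ?_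
    rw [map_mul, map_mul, map_mul, map_inv, h, inv_mul_cancel]

end CfsgLib.OddGated29.ClassTwo
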