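import Cfsg.Agent.Lib.Core.Coprime
import Cfsg.Agent.Lib.Transfer.ZJControl

/-!
# Coprime actions `φ : A →* MulAut G`, in the language of invariant subgroups
-/

set_option autoImplicit false
set_option linter.all false

namespace CfsgLib.OddGated29

open Subgroup

variable {A G : Type*} [Group A] [Group G]

/-- `H` is invariant under the action `φ`. -/
def Inv (φ : A →* MulAut G) (H : Subgroup G) : Prop := ∀ a, ∀ x ∈ H, φ a x ∈ H

variable {φ : A →* MulAut G} {H K : Subgroup G}

theorem Inv.map_eq (h : Inv φ H) (a : A) : H.map (φ a).toMonoidHom = H := by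
  refine le_antisymm (map_le_iff_le_comap.2 fun x hx => h a x hx) fun x hx => ?_
  refine ⟨φ a⁻¹ x, h a⁻¹ x hx, ?_⟩
  show (φ a) ((φ a⁻¹) x) = x
  rw [← MulAut.mul_apply, ← map_mul, mul_inv_cancel, map_one, MulAut.one_apply]

theorem inv_of_map_eq (h : ∀ a, H.map (φ a).toMonoidHom = H) : Inv φ H := fun a x hx =>
  h a ▸ mem_map_of_mem _ hx

theorem inv_top : Inv φ (⊤ : Subgroup G) := fun _ _ _ => mem_top _

theorem inv_bot : Inv φ (⊥ : Subgroup G) := fun a x hx => by
  rw [mem_bot.1 hx, map_one]; exact one_mem _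

theorem inv_of_characteristic (H : Subgroup G) [H.Characteristic] : Inv φ H := fun a _ hx =>
  characteristic_iff_le_comap.1 inferInstance (φ a) hx

theorem Inv.sup (hH : Inv φ H) (hK : Inv φ K) : Inv φ (H ⊔ K) := by
  refine inv_of_map_eq fun a => ?_
  rw [Subgroup.map_sup, hH.map_eq, hK.map_eq]

theorem Inv.inf (hH : Inv φ H) (hK : Inv φ K) : Inv φ (H ⊓ K) := fun a x hx =>
  ⟨hH a x hx.1, hK a x hx.2⟩

theorem Inv.normalizer (hH : Inv φ H) : Inv φ (normalizer (H : Set G)) := by
  refine inv_of_map_eq fun a => ?_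
  exact (Subgroup.map_equiv_normalizer_eq H (φ a)).trans <| congrArg (fun S : Subgroup G => Subgroup.normalizer (S : Set G)) (hH.map_eq a)

theorem Inv.centerThompson {p : ℕ} (hH : Inv φ H) : Inv φ (Cfsg.centerThompsonOf p H) := by
  refine inv_of_map_eq fun a => ?_
  rw [CfsgLib.Transfer.centerThompsonOf_map, hH.map_eq]
  rw [MonoidHom.ker_eq_bot_iff _ |>.2 (φ a).injective]
  exact disjoint_bot_right

theorem exists_max_ge [Finite G] (hH : Inv φ H) (hne : H ≠ ⊤) :
    ∃ M, H ≤ M ∧ M ≠ ⊤ ∧ Inv φ M ∧ ∀ L, M < L → Inv φ L → L = ⊤ := by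
  obtain ⟨M, ⟨hHM, hM, hMi⟩, hmax⟩ := WellFounded.has_min (wellFounded_gt (α := Subgroup G))
    {M | H ≤ M ∧ M ≠ ⊤ ∧ Inv φ M} ⟨H, le_rfl, hne, hH⟩
  exact ⟨M, hHM, hM, hMi, fun L hlt hL => by_contra fun he => hmax L ⟨hHM.trans hlt.le, he, hL⟩ hlt⟩

/-- The action on an invariant subgroup. -/
def restrictAct (φ : A →* MulAut G) (H : Subgroup G) (h : Inv φ H) : A →* MulAut H where
  toFun a :=
    { toFun := fun x => ⟨φ a x, h a x x.2⟩
      invFun := fun x => ⟨φ a⁻¹ x, h a⁻¹ x x.2⟩
      left_inv := fun x => Subtype.ext (by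
        show (φ a⁻¹) ((φ a) (x : G)) = x
        rw [← MulAut.mul_apply, ← map_mul, inv_mul_cancel, map_one, MulAut.one_apply])
      right_inv := fun x => Subtype.ext (by
        show (φ a) ((φ a⁻¹) (x : G)) = x
        rw [← MulAut.mul_apply, ← map_mul, mul_inv_cancel, map_one, MulAut.one_apply])
      map_mul' := fun x y => Subtype.ext (map_mul (φ a) (x : G) y) }
  map_one' := by ext x; simp
  map_mul' a b := by ext x; simp [MulAut.mul_apply]

theorem inv_map_subtype {h : Inv φ H} {L : Subgroup H} (hL : Inv (restrictAct φ H h) L) :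
    Inv φ (L.map H.subtype) := by
  rintro a _ ⟨y, hy, rfl⟩
  exact ⟨_, hL a y hy, rfl⟩

/-- The action on the quotient by an invariant normal subgroup. -/
def quotientAct (φ : A →* MulAut G) (N : Subgroup G) [N.Normal] (h : Inv φ N) : A →* MulAut (G ⧸ N) where
  toFun a := QuotientGroup.congr N N (φ a) (h.map_eq a)
  map_one' := by
    ext x
    induction x using QuotientGroup.induction_on with
    | H g => simp
  map_mul' a b := by
    ext x
    induction x using QuotientGroup.induction_on with
    | H g =>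
      show ((φ (a * b) g : G) : G ⧸ N) = ((φ a (φ b g) : G) : G ⧸ N)
      rw [map_mul, MulAut.mul_apply]

theorem inv_comap_mk {N : Subgroup G} [N.Normal] {h : Inv φ N} {L : Subgroup (G ⧸ N)}
    (hL : Inv (quotientAct φ N h) L) : Inv φ (L.comap (QuotientGroup.mk' N)) := fun a x hx => by
  have := hL a _ hx
  show ((φ a x : G) : G ⧸ N) ∈ L
  exact this

section Sylow

variable [Finite A] [Finite G]

/-- An invariant Sylow subgroup exists. -/
theorem exists_inv_sylow (φ : A →* MulAut G) (hcop : (Nat.card A).Coprime (Nat.card G))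
    (hsol : Group.IsSolvable A ∨ Group.IsSolvable G) (p : ℕ) [Fact p.Prime] :
    ∃ P : Sylow p G, Inv φ (P : Subgroup G) := by
  let Γ := G ⋊[φ] A
  haveI : Finite Γ := Finite.of_equiv _ SemidirectProduct.equivProd.symm
  let ι : G →* Γ := SemidirectProduct.inl
  have hι : Function.Injective ι := SemidirectProduct.inl_injective
  let K : Subgroup Γ := ι.range
  let B : Subgroup Γ := (SemidirectProduct.inr : A →* Γ).range
  have hKn : K.Normal := by
    show (SemidirectProduct.inl : G →* Γ).range.Normal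
    rw [SemidirectProduct.range_inl_eq_ker_rightHom]
    infer_instance
  have hconj : ∀ (a : A) (x : G), (SemidirectProduct.inr a : Γ) * ι x * (SemidirectProduct.inr a : Γ)⁻¹
      = ι (φ a x) := fun a x => by
    rw [← map_inv]; exact (SemidirectProduct.inl_aut a x).symm
  have hBK : B ≤ Subgroup.normalizer (K : Set Γ) := by rw [normalizer_eq_top_iff.2 hKn]; exact le_top
  have hKc : Nat.card K = Nat.card G := (Nat.card_congr (MonoidHom.ofInjective hι).toEquiv).symm
  have hBc : Nat.card B = Nat.card A :=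
    (Nat.card_congr (MonoidHom.ofInjective SemidirectProduct.inr_injective).toEquiv).symm
  have hsolB : Group.IsSolvable B ∨ Group.IsSolvable K := hsol.imp
    (fun h => @Group.isSolvable_of_surjective _ _ _ _ (SemidirectProduct.inr : A →* Γ).rangeRestrict
      (MonoidHom.rangeRestrict_surjective _) h)
    (fun h => @Group.isSolvable_of_surjective _ _ _ _ ι.rangeRestrict (MonoidHom.rangeRestrict_surjective _) h)
  obtain ⟨P, hP⟩ := CfsgLib.Core.exists_invariant_sylow hBK (by rw [hBc, hKc]; exact hcop) hsolB p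
  set L : Subgroup G := ((P : Subgroup K).map K.subtype).comap ι with hL
  have hcard : Nat.card L = p ^ (Nat.card G).factorization p := by
    rw [Nat.card_congr (L.equivMapOfInjective ι hι).toEquiv, hL,
      map_comap_eq_self (show _ ≤ ι.range from map_subtype_le _),
      Subgroup.card_map_of_injective K.subtype_injective, P.card_eq_multiplicity, hKc]
  refine ⟨Sylow.ofCard L hcard, fun a x hx => ?_⟩
  rw [Sylow.coe_ofCard] at hx ⊢
  rw [hL, mem_comap] at hx ⊢
  rw [← hconj]
  exact ((mem_normalizer_iff).1 (hP ⟨a, rfl⟩) _).1 hx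

end Sylow

end CfsgLib.OddGated29
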