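import Cfsg.Agent.S0117
import Cfsg.Agent.Lib.Core.ConjAbelian
import Cfsg.Agent.Lib.Core.FPFAutomorphism
import Cfsg.Agent.Lib.OddGated29.InvariantAction

/-!
# Coprime action with all proper invariant subgroups nilpotent
-/

set_option autoImplicit false
set_option linter.all false

namespace CfsgLib.OddGated29

open Subgroup

universe u

variable {A : Type*} [Group A] [Finite A] {G : Type u} [Group G] [Finite G]

/-- Every proper invariant subgroup is nilpotent. -/
def AllNil (φ : A →* MulAut G) : Prop :=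
  ∀ H : Subgroup G, Inv φ H → H ≠ ⊤ → Group.IsNilpotent H

theorem allNil_of_maximal {φ : A →* MulAut G}
    (h : ∀ H : Subgroup G, H ≠ ⊤ → Inv φ H → (∀ K, H < K → Inv φ K → K = ⊤) → Group.IsNilpotent H) :
    AllNil φ := fun H hH hne => by
  obtain ⟨M, hHM, hM, hMi, hmax⟩ := exists_max_ge hH hne
  haveI := h M hM hMi hmax
  exact CfsgLib.Core.isNilpotent_of_le hHM

theorem AllNil.quotient {φ : A →* MulAut G} (h : AllNil φ) (N : Subgroup G) [N.Normal] (hN : Inv φ N) :
    AllNil (quotientAct φ N hN) := fun L hL hne => by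
  haveI := h _ (inv_comap_mk hL) fun e => hne (comap_injective (QuotientGroup.mk'_surjective N)
    (e.trans (comap_top _).symm))
  have := CfsgLib.Core.isNilpotent_map (QuotientGroup.mk' N) (L.comap (QuotientGroup.mk' N))
  rwa [map_comap_eq_self_of_surjective (QuotientGroup.mk'_surjective N)] at this

theorem AllNil.isSolvable {φ : A →* MulAut G} (h : AllNil φ)
    (hcop : (Nat.card A).Coprime (Nat.card G)) (hsol : Group.IsSolvable A ∨ Group.IsSolvable G) :
    Group.IsSolvable G := by
  induction hn : Nat.card G using Nat.strong_induction_on generalizing G with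
  | _ n ih =>
  subst hn
  by_cases hN : ∃ N : Subgroup G, N.Normal ∧ Inv φ N ∧ N ≠ ⊥ ∧ N ≠ ⊤
  · obtain ⟨N, hN, hNi, hb, ht⟩ := hN
    haveI := h N hNi ht
    haveI := ih (Nat.card (G ⧸ N)) (by
      rw [← index_eq_card]
      calc N.index < Nat.card N * N.index :=
            lt_mul_of_one_lt_left (Nat.pos_of_ne_zero index_ne_zero_of_finite) ((one_lt_card_iff_ne_bot N).2 hb)
        _ = Nat.card G := N.card_mul_index) (h.quotient N hNi)
      (hcop.coprime_dvd_right (card_quotient_dvd_card N))
      (hsol.imp id fun (hG : Group.IsSolvable G) =>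
        @Group.isSolvable_of_surjective _ _ _ _ (QuotientGroup.mk' N) (QuotientGroup.mk'_surjective N) hG) rfl
    exact Group.isSolvable_of_ker_le_range N.subtype (QuotientGroup.mk' N) (by rw [QuotientGroup.ker_mk', N.range_subtype])
  push Not at hN
  by_cases hp : ∃ p, p.Prime ∧ p ≠ 2 ∧ p ∣ Nat.card G
  · obtain ⟨p, hp, hp2, hpG⟩ := hp
    haveI := Fact.mk hp
    obtain ⟨P, hP⟩ := exists_inv_sylow φ hcop hsol p
    by_cases hPt : (P : Subgroup G) = ⊤
    · haveI : Group.IsNilpotent (⊤ : Subgroup G) := hPt ▸ P.isPGroup'.isNilpotent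
      haveI := Group.nilpotent_of_mulEquiv (topEquiv : (⊤ : Subgroup G) ≃* G)
      infer_instance
    have hPb : (P : Subgroup G) ≠ ⊥ := P.ne_bot_of_dvd_card hpG
    set Z := Cfsg.centerThompsonOf p (P : Subgroup G) with hZ
    have hZle : Z ≤ (P : Subgroup G) := CfsgLib.Transfer.centerThompsonOf_le _
    have hnorm : ∀ T : Subgroup G, Inv φ T → T ≠ ⊥ → T ≠ ⊤ → Subgroup.normalizer (T : Set G) ≠ ⊤ :=
      fun T hT hb ht e => ht (hN T (normalizer_eq_top_iff.1 e) hT hb)
    haveI := h _ hP.centerThompson.normalizer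
      (hnorm Z hP.centerThompson (CfsgLib.Transfer.centerThompsonOf_ne_bot P.isPGroup' hPb)
        fun e => hPt (top_le_iff.1 (e ▸ hZle)))
    have hc : Cfsg.HasNormalPComplement p G :=
      (Cfsg.Agent.S0117.result hp2 P).2 (CfsgLib.Core.FPFAut.hasNormalPComplement_of_isNilpotent p)
    rw [CfsgLib.Transfer.hasNormalPComplement_iff_coprime] at hc
    by_cases hb : Cfsg.pResidual p G = ⊥
    · have hpg : IsPGroup p G := by
        refine (CfsgLib.Transfer.isPGroup_quotient_pResidual (p := p) (G := G)).of_equiv ?_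
        exact (QuotientGroup.quotientMulEquivOfEq hb).trans QuotientGroup.quotientBot
      haveI := hpg.isNilpotent
      infer_instance
    · have := hN _ inferInstance (inv_of_characteristic (Cfsg.pResidual p G)) hb
      rw [this, card_top] at hc
      exact absurd ((Nat.coprime_comm.1 hc).coprime_dvd_right hpG) (by
        rw [Nat.coprime_self]; exact hp.one_lt.ne')
  · push Not at hp
    have hpg : IsPGroup 2 G := IsPGroup.of_card
      (Nat.eq_prime_pow_of_unique_prime_dvd Nat.card_pos.ne' fun {q} hq hd => by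
        by_contra hne; exact hp q hq hne hd)
    haveI := hpg.isNilpotent
    infer_instance

theorem sylow_eq_top_of_card_dvd {H : Subgroup G}
    (h : ∀ p : ℕ, p.Prime → p ^ (Nat.card G).factorization p ∣ Nat.card H) : H = ⊤ := by
  refine eq_top_of_card_eq H (Nat.dvd_antisymm (card_subgroup_dvd_card H) ?_)
  exact (Nat.factorization_le_iff_dvd Nat.card_pos.ne' Nat.card_pos.ne').1 fun p => by
    by_cases hp : p.Prime
    · exact (hp.pow_dvd_iff_le_factorization Nat.card_pos.ne').1 (h p hp)
    · rw [Nat.factorization_eq_zero_of_not_prime _ hp]; exact Nat.zero_le _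

/-- The structure part of S4240. -/
theorem AllNil.two_primes {φ : A →* MulAut G} (h : AllNil φ)
    (hcop : (Nat.card A).Coprime (Nat.card G)) (hsol : Group.IsSolvable G) (hG : ¬ Group.IsNilpotent G) :
    (∃ p q a b : ℕ, p.Prime ∧ q.Prime ∧ p ≠ q ∧ Nat.card G = p ^ a * q ^ b) ∧
      ∃ (p : ℕ) (P : Sylow p G), p.Prime ∧ p ∣ Nat.card G ∧ (P : Subgroup G).Normal ∧ Inv φ (P : Subgroup G) := by
  haveI : Nontrivial G := by
    by_contra hs
    rw [not_nontrivial_iff_subsingleton] at hs
    exact hG inferInstance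
  have hlt := Group.IsSolvable.commutator_lt_top_of_nontrivial G
  obtain ⟨q, hq, hqd⟩ := Nat.exists_prime_and_dvd (fun e => hlt.ne (index_eq_one.1 e) : (commutator G).index ≠ 1)
  haveI := Fact.mk hq
  set M := Cfsg.pResidual q G with hM
  have hMt : M ≠ ⊤ := by
    intro e
    let π : G →* Abelianization G := Abelianization.of
    let S : Subgroup G :=
      { carrier := {g | (orderOf (π g)).Coprime q}
        one_mem' := by simp
        mul_mem' := fun {a b} ha hb => by
          show (orderOf (π (a * b))).Coprime q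
          rw [map_mul]
          exact (Nat.Coprime.mul_left ha hb).coprime_dvd_left
            ((Commute.all _ _).orderOf_mul_dvd_lcm.trans (Nat.lcm_dvd_mul _ _))
        inv_mem' := fun {a} ha => by
          show (orderOf (π a⁻¹)).Coprime q
          rw [map_inv, orderOf_inv]; exact ha }
    have hle : M ≤ S := CfsgLib.Transfer.pResidual_le_iff.2 fun g hg =>
      Nat.Coprime.coprime_dvd_left (orderOf_map_dvd π g) hg
    haveI : Finite (Abelianization G) := inferInstanceAs (Finite (G ⧸ commutator G))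
    obtain ⟨c, hc⟩ := exists_prime_orderOf_dvd_card' (G := Abelianization G) q
      (by show q ∣ Nat.card (G ⧸ commutator G); rw [← index_eq_card]; exact hqd)
    obtain ⟨g, hg⟩ := QuotientGroup.mk_surjective c
    have hgS : (orderOf (π g)).Coprime q := hle (e ▸ mem_top g)
    rw [show π g = c from hg, hc, Nat.coprime_self] at hgS
    exact hq.one_lt.ne' hgS
  haveI : Group.IsNilpotent M := h M (inv_of_characteristic M) hMt
  obtain ⟨Q, hQ⟩ := exists_inv_sylow φ hcop (Or.inr hsol) q
  -- Sylow subgroups for other primes are normal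
  have hnorm : ∀ r : ℕ, r.Prime → r ≠ q → ∀ R : Sylow r G, (R : Subgroup G).Normal := by
    intro r hr hrq R
    haveI := Fact.mk hr
    have hle : (R : Subgroup G) ≤ Cfsg.pCore r G := fun x hx => by
      obtain ⟨k, hk⟩ := R.isPGroup' ⟨x, hx⟩
      have hxk : x ^ r ^ k = 1 := congrArg Subtype.val hk
      refine CfsgLib.Core.ConjAbelian.mem_pCore_of_mem_fitting (CfsgLib.Core.le_fittingSubgroup (N := M) inferInstance ?_) ⟨k, hxk⟩
      refine CfsgLib.Transfer.mem_pResidual_of_coprime ?_
      exact (((Nat.coprime_primes hr hq).2 hrq).pow_left k).coprime_dvd_left (orderOf_dvd_of_pow_eq_one hxk)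
    rw [le_antisymm hle (CfsgLib.Core.pCore_le_sylow R)]
    infer_instance
  by_cases hex : ∃ r : ℕ, r.Prime ∧ r ≠ q ∧ ∀ R : Sylow r G, (R : Subgroup G) ⊔ (Q : Subgroup G) = ⊤
  · obtain ⟨r, hr, hrq, hrQ⟩ := hex
    haveI := Fact.mk hr
    obtain ⟨R, hR⟩ := exists_inv_sylow φ hcop (Or.inr hsol) r
    haveI := hnorm r hr hrq R
    have hcard : Nat.card G = Nat.card (R : Subgroup G) * Nat.card (Q : Subgroup G) := by
      refine Nat.dvd_antisymm ?_ ((Nat.Coprime.mul_dvd_of_dvd_of_dvd ?_) (card_subgroup_dvd_card _) (card_subgroup_dvd_card _))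
      · have := CfsgLib.Core.card_sup_dvd (Q : Subgroup G) (R : Subgroup G) (CfsgLib.Core.le_normalizer_of_normal _ _)
        rwa [sup_comm, hrQ R, card_top, mul_comm] at this
      · rw [R.card_eq_multiplicity, Q.card_eq_multiplicity]
        exact Nat.Coprime.pow _ _ ((Nat.coprime_primes hr hq).2 hrq)
    refine ⟨⟨r, q, _, _, hr, hq, hrq, by rw [hcard, R.card_eq_multiplicity, Q.card_eq_multiplicity]⟩,
      r, R, hr, ?_, hnorm r hr hrq R, hR⟩
    by_contra hd
    apply hG
    have hQt : (Q : Subgroup G) = ⊤ := by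
      have hRb : (R : Subgroup G) = ⊥ := by
        rw [← card_eq_one, R.card_eq_multiplicity, Nat.factorization_eq_zero_of_not_dvd hd, pow_zero]
      have := hrQ R
      rwa [hRb, bot_sup_eq] at this
    haveI : Group.IsNilpotent (⊤ : Subgroup G) := hQt ▸ Q.isPGroup'.isNilpotent
    exact Group.nilpotent_of_mulEquiv topEquiv
  -- otherwise `Q` is normal and `G` is nilpotent
  exfalso
  push Not at hex
  apply hG
  have hQn : (Q : Subgroup G).Normal := by
    rw [← normalizer_eq_top_iff]
    refine sylow_eq_top_of_card_dvd fun r hr => ?_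
    haveI := Fact.mk hr
    by_cases hrq : r = q
    · subst hrq
      rw [← Q.card_eq_multiplicity]
      exact card_dvd_of_le le_normalizer
    obtain ⟨R', hR'⟩ := hex r hr hrq
    obtain ⟨R, hR⟩ := exists_inv_sylow φ hcop (Or.inr hsol) r
    haveI := hnorm r hr hrq R
    haveI := hnorm r hr hrq R'
    haveI := Sylow.unique_of_normal R (hnorm r hr hrq R)
    rw [Subsingleton.elim R' R] at hR'
    haveI := h _ (hR.sup hQ) hR'
    let Q' : Sylow q ((R : Subgroup G) ⊔ (Q : Subgroup G) : Subgroup G) := Q.subtype le_sup_right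
    have hQ'n : Q'.toSubgroup.Normal := inferInstance
    rw [← R.card_eq_multiplicity]
    refine card_dvd_of_le ?_
    refine le_sup_left.trans ((normal_subgroupOf_iff_le_normalizer le_sup_right).1 ?_)
    exact hQ'n
  refine (Group.isNilpotent_of_finite_tfae.out 0 3 rfl rfl).2 fun r hr R => ?_
  by_cases hrq : r = q
  · subst hrq
    haveI := Sylow.unique_of_normal Q hQn
    rw [Subsingleton.elim R Q]
    exact hQn
  · exact hnorm r hr.out hrq R

/-- S4240 given the solubility hypothesis. -/
theorem structure_of_maximal_nilpotent {φ : A →* MulAut G}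
    (hcop : (Nat.card A).Coprime (Nat.card G)) (hsol : Group.IsSolvable A ∨ Group.IsSolvable G)
    (hmax : ∀ H : Subgroup G, H ≠ ⊤ → Inv φ H → (∀ K, H < K → Inv φ K → K = ⊤) → Group.IsNilpotent H)
    (hG : ¬ Group.IsNilpotent G) :
    Group.IsSolvable G ∧
      (∃ p q a b : ℕ, p.Prime ∧ q.Prime ∧ p ≠ q ∧ Nat.card G = p ^ a * q ^ b) ∧
      ∃ (p : ℕ) (P : Sylow p G), p.Prime ∧ p ∣ Nat.card G ∧ (P : Subgroup G).Normal ∧ Inv φ (P : Subgroup G) :=
  have h := allNil_of_maximal hmax
  have hs := h.isSolvable hcop hsol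
  ⟨hs, h.two_primes hcop hs hG⟩

end CfsgLib.OddGated29

namespace CfsgLib.OddGated29

universe v w

/-- Coprime orders force one of the two groups to be soluble, given solubility for odd order. -/
theorem solvable_or_of_coprime {A : Type v} {G : Type w} [Group A] [Finite A] [Group G] [Finite G]
    (hA : Odd (Nat.card A) → Group.IsSolvable A) (hG : Odd (Nat.card G) → Group.IsSolvable G)
    (hcop : (Nat.card A).Coprime (Nat.card G)) : Group.IsSolvable A ∨ Group.IsSolvable G := by
  by_cases h : 2 ∣ Nat.card A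
  · refine Or.inr (hG (Nat.not_even_iff_odd.1 fun he => ?_))
    have := Nat.dvd_gcd h he.two_dvd
    rw [hcop] at this
    omega
  · exact Or.inl (hA (Nat.not_even_iff_odd.1 fun he => h he.two_dvd))

/-- S4240 given solubility of groups of odd order. -/
theorem statement4240 {A : Type v} {G : Type w} [Group A] [Group G] [Finite A] [Finite G] [MulDistribMulAction A G]
    (hA : Odd (Nat.card A) → Group.IsSolvable A) (hG' : Odd (Nat.card G) → Group.IsSolvable G)
    (hcop : (Nat.card A).Coprime (Nat.card G))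
    (hmax : ∀ H : Subgroup G, H ≠ ⊤ → (∀ a : A, ∀ x ∈ H, a • x ∈ H) →
      (∀ K : Subgroup G, H < K → (∀ a : A, ∀ x ∈ K, a • x ∈ K) → K = ⊤) → Group.IsNilpotent H)
    (hG : ¬ Group.IsNilpotent G) :
    Group.IsSolvable G ∧
      (∃ p q a b : ℕ, p.Prime ∧ q.Prime ∧ p ≠ q ∧ Nat.card G = p ^ a * q ^ b) ∧
      ∃ (p : ℕ) (P : Sylow p G), p.Prime ∧ p ∣ Nat.card G ∧ (P : Subgroup G).Normal ∧
        (∀ a : A, ∀ x ∈ (P : Subgroup G), a • x ∈ (P : Subgroup G)) :=
  structure_of_maximal_nilpotent (φ := MulDistribMulAction.toMulAut A G) hcop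
    (solvable_or_of_coprime hA hG' hcop) hmax hG

end CfsgLib.OddGated29
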