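import Cfsg.Agent.S0117
import Cfsg.Agent.S0205
import Cfsg.Agent.Lib.OddGated29.InvariantNilpotent
import Cfsg.Agent.Lib.OddGated29.ClassTwoGraph

/-!
# A nilpotent maximal invariant subgroup with Sylow two-subgroups of class at most two

A group with a coprime operator group having such a subgroup is soluble.
-/

set_option autoImplicit false
set_option linter.all false

namespace CfsgLib.OddGated29.ClassTwo

open Subgroup
open scoped commutatorElement

universe u

/-- The two-elements of `M` generate a subgroup of class at most two, said elementwise. -/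
def ClassLeTwo {G : Type*} [Group G] (M : Subgroup G) : Prop :=
  ∀ x ∈ M, ∀ y ∈ M, ∀ w ∈ M, (∃ k, x ^ 2 ^ k = 1) → (∃ k, y ^ 2 ^ k = 1) → (∃ k, w ^ 2 ^ k = 1) →
    w * ⁅x, y⁆ = ⁅x, y⁆ * w

theorem exists_two_element_lift {G H : Type*} [Group G] [Finite G] [Group H] (f : G →* H)
    {M : Subgroup G} {y : H} (hy : y ∈ M.map f) {k : ℕ} (hk : y ^ 2 ^ k = 1) :
    ∃ x ∈ M, (∃ j, x ^ 2 ^ j = 1) ∧ f x = y := by
  obtain ⟨x, hx, rfl⟩ := hy
  obtain ⟨a, b, hb, hab⟩ := Nat.exists_eq_pow_mul_and_not_dvd (orderOf_pos x).ne' 2 (by norm_num)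
  have hco : Nat.Coprime b (2 ^ k) :=
    (Nat.coprime_two_right.2 (Nat.not_even_iff_odd.1 fun he => hb he.two_dvd)).pow_right k
  refine ⟨x ^ (b * Nat.gcdA b (2 ^ k) : ℤ), M.zpow_mem hx _, ⟨a, ?_⟩, ?_⟩
  · rw [← _root_.zpow_natCast, ← _root_.zpow_mul,
      show (b * Nat.gcdA b (2 ^ k) : ℤ) * ((2 ^ a : ℕ) : ℤ) = ((2 ^ a * b : ℕ) : ℤ) * Nat.gcdA b (2 ^ k) by
        push_cast; ring,
      _root_.zpow_mul, _root_.zpow_natCast, ← hab, pow_orderOf_eq_one, _root_.one_zpow]
  · have h := Nat.gcd_eq_gcd_ab b (2 ^ k)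
    rw [hco.gcd_eq_one, Nat.cast_one] at h
    rw [map_zpow]
    calc f x ^ (b * Nat.gcdA b (2 ^ k) : ℤ)
        = f x ^ ((b * Nat.gcdA b (2 ^ k) : ℤ) + ((2 ^ k : ℕ) : ℤ) * Nat.gcdB b (2 ^ k)) := by
          rw [_root_.zpow_add, _root_.zpow_mul (f x) ((2 ^ k : ℕ) : ℤ), _root_.zpow_natCast, hk, _root_.one_zpow, mul_one]
      _ = f x := by rw [← h, _root_.zpow_one]

theorem ClassLeTwo.map {G H : Type*} [Group G] [Finite G] [Group H] (f : G →* H) {M : Subgroup G}
    (h : ClassLeTwo M) : ClassLeTwo (M.map f) := by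
  rintro x hx y hy w hw ⟨i, hi⟩ ⟨j, hj⟩ ⟨l, hl⟩
  obtain ⟨x', hx', hxk, rfl⟩ := exists_two_element_lift f hx hi
  obtain ⟨y', hy', hyk, rfl⟩ := exists_two_element_lift f hy hj
  obtain ⟨w', hw', hwk, rfl⟩ := exists_two_element_lift f hw hl
  rw [← map_commutatorElement, ← map_mul, ← map_mul, h x' hx' y' hy' w' hw' hxk hyk hwk]

theorem classLeTwo_of_nilpotencyClass {G : Type*} [Group G] [Finite G] (M : Subgroup G)
    [Group.IsNilpotent M] (h2 : ∀ S : Sylow 2 M, Group.nilpotencyClass ↥(S : Subgroup M) ≤ 2) :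
    ClassLeTwo M := by
  haveI : Fact (Nat.Prime 2) := ⟨Nat.prime_two⟩
  intro x hx y hy w hw hxk hyk hwk
  obtain ⟨S⟩ := (Sylow.nonempty : Nonempty (Sylow 2 M))
  haveI hSn : (S : Subgroup M).Normal := (Group.isNilpotent_of_finite_tfae.out 0 3 rfl rfl).1 ‹_› 2 ⟨Nat.prime_two⟩ S
  have hmem : ∀ a (ha : a ∈ M), (∃ k, a ^ 2 ^ k = 1) → (⟨a, ha⟩ : M) ∈ (S : Subgroup M) := by
    rintro a ha ⟨k, hk⟩
    have hp : IsPGroup 2 (zpowers (⟨a, ha⟩ : M)) := by
      rintro ⟨b, hb⟩
      obtain ⟨i, rfl⟩ := mem_zpowers_iff.1 hb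
      refine ⟨k, Subtype.ext ?_⟩
      rw [SubgroupClass.coe_pow, OneMemClass.coe_one, ← _root_.zpow_natCast, ← _root_.zpow_mul, mul_comm,
        _root_.zpow_mul, _root_.zpow_natCast,
        show (⟨a, ha⟩ : M) ^ 2 ^ k = 1 from Subtype.ext hk, _root_.one_zpow]
    haveI := Sylow.unique_of_normal S hSn
    obtain ⟨P, hP⟩ := hp.exists_le_sylow
    exact Subsingleton.elim P S ▸ hP (mem_zpowers _)
  haveI := S.isPGroup'.isNilpotent
  have hbot := Subgroup.lowerCentralSeries_eq_bot_iff_nilpotencyClass_le.2 (h2 S)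
  let a : (S : Subgroup M) := ⟨⟨x, hx⟩, hmem x hx hxk⟩
  let b : (S : Subgroup M) := ⟨⟨y, hy⟩, hmem y hy hyk⟩
  let c : (S : Subgroup M) := ⟨⟨w, hw⟩, hmem w hw hwk⟩
  have h1 : ⁅⁅a, b⁆, c⁆ ∈ (⊤ : Subgroup ↥(S : Subgroup M)).lowerCentralSeries 2 := by
    rw [Subgroup.lowerCentralSeries_succ, Subgroup.lowerCentralSeries_succ, Subgroup.lowerCentralSeries_zero]
    exact commutator_mem_commutator (commutator_mem_commutator (mem_top a) (mem_top b)) (mem_top c)
  rw [hbot, mem_bot, commutatorElement_eq_one_iff_mul_comm] at h1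
  exact congrArg (fun t : (S : Subgroup M) => ((t : M) : G)) h1.symm

/-- The automorphisms fixing a subgroup. -/
def stabAut {G : Type*} [Group G] (L : Subgroup G) : Subgroup (MulAut G) where
  carrier := {φ | ∀ x, φ x ∈ L ↔ x ∈ L}
  one_mem' := fun x => Iff.rfl
  mul_mem' := fun {φ ψ} hφ hψ x => (hφ (ψ x)).trans (hψ x)
  inv_mem' := fun {φ} hφ x => by
    rw [← hφ (φ⁻¹ x)]
    simp

theorem mem_stabAut_of_forall {G : Type*} [Group G] [Finite G] {L : Subgroup G} {φ : MulAut G}
    (h : ∀ x ∈ L, φ x ∈ L) : φ ∈ stabAut L := by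
  intro x
  refine ⟨fun hx => ?_, h x⟩
  have he : L.map φ.toMonoidHom = L :=
    Subgroup.eq_of_le_of_card_ge (by rintro _ ⟨y, hy, rfl⟩; exact h y hy)
      (by rw [Subgroup.card_map_of_injective φ.injective])
  rw [← he] at hx
  exact (Subgroup.mem_map_iff_mem φ.injective).1 hx

theorem inv_sylow_of_nilpotent {G : Type*} [Group G] [Finite G] {A : Subgroup (MulAut G)}
    {M : Subgroup G} (hM : Inv A.subtype M) [Group.IsNilpotent M] {p : ℕ} [Fact p.Prime] (P : Sylow p M) :
    Inv A.subtype ((P : Subgroup M).map M.subtype) := by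
  haveI hPn : (P : Subgroup M).Normal := (Group.isNilpotent_of_finite_tfae.out 0 3 rfl rfl).1 ‹_› p ‹_› P
  haveI := P.characteristic_of_normal hPn
  exact inv_map_subtype (h := hM) (inv_of_characteristic _)

/-- The induction. -/
theorem solvable_aux (n : ℕ) : ∀ {G : Type u} [Group G] [Finite G], Nat.card G ≤ n →
    ∀ (A : Subgroup (MulAut G)), (Nat.card A).Coprime (Nat.card G) →
    ∀ M : Subgroup G, M ≠ ⊤ → Inv A.subtype M →
    (∀ H : Subgroup G, M ≤ H → H ≠ ⊤ → Inv A.subtype H → H = M) →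
    Group.IsNilpotent M → ClassLeTwo M → Group.IsSolvable G := by
  induction n with
  | zero =>
    intro G _ _ hn
    have := Nat.card_pos (α := G)
    omega
  | succ n ih =>
  intro G _ _ hn A hcop M hMt hM hmax hnil hcl
  by_contra hns
  -- no invariant soluble normal subgroup
  have hmin : ∀ N : Subgroup G, N.Normal → Inv A.subtype N → Group.IsSolvable N → N = ⊥ := by
    intro N hN hNi hNs
    by_contra hb
    apply hns
    haveI := hNs
    haveI := hN
    have hsurj : Function.Surjective (QuotientGroup.mk' N) := QuotientGroup.mk'_surjective N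
    suffices Group.IsSolvable (G ⧸ N) by
      exact Group.isSolvable_of_ker_le_range N.subtype (QuotientGroup.mk' N)
        (by rw [QuotientGroup.ker_mk', N.range_subtype])
    haveI := CfsgLib.Core.isNilpotent_map (QuotientGroup.mk' N) M
    by_cases hNM : N ≤ M
    · have hcomap : (M.map (QuotientGroup.mk' N)).comap (QuotientGroup.mk' N) = M := by
        rw [comap_map_eq, QuotientGroup.ker_mk', sup_eq_left.2 hNM]
      refine ih (by
        have h1 : Nat.card (G ⧸ N) < Nat.card G := by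
          rw [← index_eq_card]
          calc N.index < Nat.card N * N.index :=
                lt_mul_of_one_lt_left (Nat.pos_of_ne_zero index_ne_zero_of_finite) ((one_lt_card_iff_ne_bot N).2 hb)
            _ = Nat.card G := N.card_mul_index
        omega) (quotientAct A.subtype N hNi).range ?_ (M.map (QuotientGroup.mk' N)) ?_ ?_ ?_ inferInstance (hcl.map _)
      · exact (hcop.coprime_dvd_left (Subgroup.card_range_dvd _)).coprime_dvd_right (card_quotient_dvd_card N)
      · intro e
        apply hMt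
        rw [← hcomap, e, comap_top]
      · rintro ⟨_, a, rfl⟩ _ ⟨x, hx, rfl⟩
        exact ⟨A.subtype a x, hM a x hx, rfl⟩
      · intro H hMH hHt hH
        have h1 : H.comap (QuotientGroup.mk' N) = M := by
          refine hmax _ (by rw [← hcomap]; exact comap_mono hMH)
            (fun e => hHt (comap_injective hsurj (e.trans (comap_top _).symm))) ?_
          exact inv_comap_mk (h := hNi) fun a x hx => hH ⟨_, a, rfl⟩ x hx
        rw [← map_comap_eq_self_of_surjective hsurj H, h1]
    · have htop : M ⊔ N = ⊤ := by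
        by_contra hne
        exact hNM ((hmax _ le_sup_left hne (hM.sup hNi)) ▸ le_sup_right)
      have h2 : M.map (QuotientGroup.mk' N) = ⊤ := by
        have := congrArg (Subgroup.map (QuotientGroup.mk' N)) htop
        rwa [Subgroup.map_sup, Subgroup.map_top_of_surjective _ hsurj,
          (Subgroup.map_eq_bot_iff N).2 (by rw [QuotientGroup.ker_mk']), sup_bot_eq] at this
      haveI : Group.IsNilpotent (⊤ : Subgroup (G ⧸ N)) := h2 ▸ inferInstance
      haveI := Group.nilpotent_of_mulEquiv (topEquiv : (⊤ : Subgroup (G ⧸ N)) ≃* (G ⧸ N))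
      infer_instance
  have hminP : ∀ {p : ℕ} [Fact p.Prime] (N : Subgroup G), IsPGroup p N → Inv A.subtype N → N ≠ ⊥ →
      normalizer (N : Set G) ≠ ⊤ := by
    intro p _ N hN hNi hb e
    haveI := hN.isNilpotent
    exact hb (hmin N (normalizer_eq_top_iff.1 e) hNi inferInstance)
  -- the Sylow subgroups of `M`
  have hsyl : ∀ p : ℕ, p.Prime → p ∣ Nat.card M →
      ∃ S : Sylow p G, (S : Subgroup G) ≤ M ∧ Inv A.subtype (S : Subgroup G) ∧
        normalizer ((S : Subgroup G) : Set G) = M ∧ (S : Subgroup G) ≠ ⊥ ∧ M ≤ normalizer ((S : Subgroup G) : Set G) := by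
    intro p hp hpd
    haveI := Fact.mk hp
    obtain ⟨P⟩ := (Sylow.nonempty : Nonempty (Sylow p M))
    set Pp := (P : Subgroup M).map M.subtype with hPp
    have hPi := inv_sylow_of_nilpotent hM P
    haveI hPn : (P : Subgroup M).Normal := (Group.isNilpotent_of_finite_tfae.out 0 3 rfl rfl).1 hnil p ⟨hp⟩ P
    have hMP : M ≤ normalizer (Pp : Set G) := by
      have := le_normalizer_map (H := (P : Subgroup M)) M.subtype
      rwa [normalizer_eq_top_iff.2 hPn, ← MonoidHom.range_eq_map, range_subtype] at this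
    have hPb : Pp ≠ ⊥ := by
      intro e
      exact P.ne_bot_of_dvd_card hpd ((Subgroup.map_eq_bot_iff_of_injective _ M.subtype_injective).1 e)
    have hN : normalizer (Pp : Set G) = M :=
      hmax _ hMP (hminP Pp (P.2.map _) hPi hPb) hPi.normalizer
    obtain ⟨S, hS⟩ := (P.2.map M.subtype).exists_le_sylow
    have hSP : (S : Subgroup G) = Pp := by
      by_contra hne
      haveI := S.isPGroup'.isNilpotent
      have hlt : Pp.subgroupOf S < ⊤ := by
        refine lt_top_iff_ne_top.2 fun e => hne (le_antisymm (subgroupOf_eq_top.1 e) hS)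
      obtain ⟨-, t, htN, htn⟩ := SetLike.lt_iff_le_and_exists.1
        (Group.normalizerCondition_of_isNilpotent (Pp.subgroupOf S) hlt)
      have ht : (t : G) ∈ M := by
        rw [← hN]
        have := le_normalizer_map (S : Subgroup G).subtype ⟨t, htN, rfl⟩
        rwa [subgroupOf_map_subtype, inf_eq_left.2 hS] at this
      apply htn
      show (t : G) ∈ Pp
      have hp1 : IsPGroup p ((S : Subgroup G).subgroupOf M) := S.2.comap_subtype
      have h1 : (P : Subgroup M) ≤ (S : Subgroup G).subgroupOf M := fun z hz => hS ⟨z, hz, rfl⟩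
      exact ⟨⟨t, ht⟩, (P.3 hp1 h1) ▸ (show (t : G) ∈ (S : Subgroup G) from t.2), rfl⟩
    exact ⟨S, hSP ▸ map_subtype_le _, hSP ▸ hPi, hSP ▸ hN, hSP ▸ hPb, hSP ▸ hMP⟩
  -- `M` is a two-group
  have hodd : ∀ p : ℕ, p.Prime → p ≠ 2 → ¬ p ∣ Nat.card M := by
    intro p hp hp2 hpd
    haveI := Fact.mk hp
    obtain ⟨S, hSM, hSi, hSN, hSb, hMS⟩ := hsyl p hp hpd
    set Z := Cfsg.centerThompsonOf p (S : Subgroup G) with hZ
    have hZle : Z ≤ (S : Subgroup G) := CfsgLib.Transfer.centerThompsonOf_le _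
    have hMZ : M ≤ normalizer (Z : Set G) := by
      intro m hm
      have h := mem_normalizer_iff_map_conj_eq.1 (hMS hm)
      rw [mem_normalizer_iff_map_conj_eq, hZ,
        CfsgLib.Transfer.centerThompsonOf_map _ _ (by
          rw [MonoidHom.ker_eq_bot_iff _ |>.2 (MulAut.conj m).injective]; exact disjoint_bot_right), h]
    have hZN : normalizer (Z : Set G) = M :=
      hmax _ hMZ (hminP Z (S.2.to_le hZle) hSi.centerThompson
        (CfsgLib.Transfer.centerThompsonOf_ne_bot S.isPGroup' hSb)) hSi.centerThompson.normalizer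
    haveI : Group.IsNilpotent (normalizer (Z : Set G)) := by rw [hZN]; exact hnil
    have hc : Cfsg.HasNormalPComplement p G :=
      (Cfsg.Agent.S0117.result hp2 S).2 (CfsgLib.Core.FPFAut.hasNormalPComplement_of_isNilpotent p)
    rw [CfsgLib.Transfer.hasNormalPComplement_iff_coprime] at hc
    set K := Cfsg.pResidual p G with hK
    have hKi : Inv A.subtype K := inv_of_characteristic K
    have hKb : K ≠ ⊥ := by
      intro hb
      apply hns
      have hpg : IsPGroup p G := by
        refine (CfsgLib.Transfer.isPGroup_quotient_pResidual (p := p) (G := G)).of_equiv ?_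
        exact (QuotientGroup.quotientMulEquivOfEq hb).trans QuotientGroup.quotientBot
      haveI := hpg.isNilpotent
      infer_instance
    have hKns : ¬ Group.IsSolvable K := fun h => hKb (hmin K inferInstance hKi h)
    have hpG : p ∣ Nat.card G := hpd.trans (card_subgroup_dvd_card M)
    have hKt : K ≠ ⊤ := by
      intro e
      rw [e, card_top] at hc
      exact absurd (hc.coprime_dvd_left hpG) (by rw [Nat.coprime_self]; exact hp.one_lt.ne')
    have hKM : ¬ K ≤ M := fun h => hKns (by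
      haveI := CfsgLib.Core.isNilpotent_of_le h
      infer_instance)
    have hScop : (Nat.card (S : Subgroup G)).Coprime (Nat.card K) := by
      rw [S.card_eq_multiplicity]
      exact (hc.symm).pow_left _
    have hKS : K ⊔ (S : Subgroup G) = ⊤ := by
      refine eq_top_iff.2 fun g _ => ?_
      have hidx : Nat.card (K ⊔ (S : Subgroup G) : Subgroup G) = Nat.card G := by
        refine Nat.dvd_antisymm (card_subgroup_dvd_card _) ?_
        refine (show Nat.card G ∣ Nat.card K * Nat.card (S : Subgroup G) from ?_).trans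
          (hScop.symm.mul_dvd_of_dvd_of_dvd (card_dvd_of_le le_sup_left) (card_dvd_of_le le_sup_right))
        obtain ⟨j, hj⟩ := IsPGroup.iff_card.1 (CfsgLib.Transfer.isPGroup_quotient_pResidual (p := p) (G := G))
        rw [← K.card_mul_index, index_eq_card, hj]
        refine mul_dvd_mul_left _ ?_
        rw [S.card_eq_multiplicity]
        refine pow_dvd_pow p ((hp.pow_dvd_iff_le_factorization Nat.card_pos.ne').1 ?_)
        exact hj ▸ card_quotient_dvd_card K
      rw [Subgroup.eq_top_of_card_eq _ hidx]; exact mem_top g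
    let g₁ : ↥(S : Subgroup G) →* MulAut K := (MulAut.conjNormal (H := K)).comp (S : Subgroup G).subtype
    let g₂ : A →* MulAut K := restrictAct A.subtype K hKi
    have hnorm : g₂.range ≤ normalizer (g₁.range : Set (MulAut K)) := by
      rintro _ ⟨a, rfl⟩
      have key : ∀ (a : A) (s : ↥(S : Subgroup G)),
          g₂ a * g₁ s * (g₂ a)⁻¹ = g₁ ⟨A.subtype a s, hSi a s s.2⟩ := by
        intro a s
        rw [mul_inv_eq_iff_eq_mul]
        ext k
        show (A.subtype a) ((s : G) * k * (s : G)⁻¹) = A.subtype a s * A.subtype a k * (A.subtype a s)⁻¹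
        rw [map_mul, map_mul, map_inv]
      refine mem_normalizer_iff.2 fun φ => ⟨?_, ?_⟩
      · rintro ⟨s, rfl⟩
        exact ⟨_, (key a s).symm⟩
      · rintro ⟨s, hs⟩
        refine ⟨⟨A.subtype a⁻¹ s, hSi a⁻¹ s s.2⟩, ?_⟩
        rw [← key a⁻¹ s, hs, map_inv]
        group
    refine hKns (ih (by
      have h1 : Nat.card K < Nat.card G := by
        rcases (card_le_card_group K).lt_or_eq with h | h
        · exact h
        · exact absurd (eq_top_of_card_eq K h) hKt
      omega) (g₂.range ⊔ g₁.range) ?_ (M.subgroupOf K) ?_ ?_ ?_ ?_ ?_)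
    · refine Nat.Coprime.coprime_dvd_left (CfsgLib.Core.card_sup_dvd _ _ hnorm) ?_
      exact Nat.Coprime.mul_left
        ((hcop.coprime_dvd_left (Subgroup.card_range_dvd _)).coprime_dvd_right (card_subgroup_dvd_card K))
        (hScop.coprime_dvd_left (Subgroup.card_range_dvd _))
    · exact fun e => hKM (subgroupOf_eq_top.1 e)
    · have hle : g₂.range ⊔ g₁.range ≤ stabAut (M.subgroupOf K) := by
        refine sup_le ?_ ?_
        · rintro _ ⟨a, rfl⟩
          exact mem_stabAut_of_forall fun x hx => hM a x hx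
        · rintro _ ⟨s, rfl⟩
          exact mem_stabAut_of_forall fun x hx =>
            M.mul_mem (M.mul_mem (hSM s.2) hx) (M.inv_mem (hSM s.2))
      exact fun φ x hx => ((hle φ.2) x).2 hx
    · intro H hMH hHt hH
      set H₀ := H.map K.subtype with hH₀
      have hH₀K : H₀ ≤ K := map_subtype_le _
      have hSH : (S : Subgroup G) ≤ normalizer (H₀ : Set G) := by
        intro s hs
        rw [mem_normalizer_iff_map_conj_eq]
        refine Subgroup.eq_of_le_of_card_ge ?_ (Subgroup.card_map_of_injective (MulAut.conj s).injective).ge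
        rintro _ ⟨_, ⟨x, hx, rfl⟩, rfl⟩
        exact ⟨_, hH ⟨_, mem_sup_right ⟨⟨s, hs⟩, rfl⟩⟩ x hx, rfl⟩
      have hH₀i : Inv A.subtype H₀ := by
        rintro a _ ⟨x, hx, rfl⟩
        exact ⟨_, hH ⟨_, mem_sup_left ⟨a, rfl⟩⟩ x hx, rfl⟩
      set J := H₀ ⊔ (S : Subgroup G) with hJ
      have hdec : ∀ j ∈ J, ∃ h ∈ H₀, ∃ s ∈ (S : Subgroup G), j = h * s := by
        intro j hj
        rw [← SetLike.mem_coe, hJ, coe_mul_of_right_le_normalizer_left _ _ hSH] at hj
        obtain ⟨h, hh, s, hs, rfl⟩ := hj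
        exact ⟨h, hh, s, hs, rfl⟩
      have hint : ∀ j ∈ J, j ∈ K → j ∈ H₀ := by
        intro j hj hjK
        obtain ⟨h, hh, s, hs, rfl⟩ := hdec j hj
        have hsK : s ∈ K := (K.mul_mem_cancel_left (hH₀K hh)).1 hjK
        have hs1 : s = 1 := by
          rw [← orderOf_eq_one_iff]
          have h1 := Nat.dvd_gcd (Subgroup.orderOf_dvd_natCard _ hs) (Subgroup.orderOf_dvd_natCard _ hsK)
          rw [hScop.gcd_eq_one] at h1
          exact Nat.dvd_one.1 h1
        rw [hs1, mul_one]; exact hh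
      have hMJ : M ≤ J := by
        intro m hm
        have hmt : m ∈ K ⊔ (S : Subgroup G) := hKS.symm ▸ mem_top m
        rw [← SetLike.mem_coe, coe_mul_of_right_le_normalizer_left _ _ le_normalizer_of_normal] at hmt
        obtain ⟨k, hk, s, hs, hks⟩ := hmt
        have hkM : k ∈ M := by
          have : k = m * s⁻¹ := eq_mul_inv_of_mul_eq hks
          rw [this]; exact M.mul_mem hm (M.inv_mem (hSM hs))
        rw [← hks]
        exact J.mul_mem (mem_sup_left ⟨⟨k, hk⟩, hMH hkM, rfl⟩) (mem_sup_right hs)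
      have hJt : J ≠ ⊤ := by
        intro e
        refine hHt (eq_top_iff.2 fun x _ => ?_)
        obtain ⟨y, hy, hyx⟩ := hint x (e ▸ mem_top _) x.2
        exact Subtype.ext hyx ▸ hy
      have hJM : J = M := hmax J hMJ hJt (hH₀i.sup hSi)
      refine le_antisymm (fun x hx => ?_) hMH
      show (x : G) ∈ M
      rw [← hJM]
      exact mem_sup_left ⟨x, hx, rfl⟩
    · haveI : Group.IsNilpotent (M ⊓ K : Subgroup G) := CfsgLib.Core.isNilpotent_of_le (inf_le_left : M ⊓ K ≤ M)
      haveI : Group.IsNilpotent (K ⊓ M : Subgroup G) := inf_comm M K ▸ ‹_›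
      exact Group.nilpotent_of_mulEquiv
        (((M.subgroupOf K).equivMapOfInjective K.subtype K.subtype_injective).trans
          (MulEquiv.subgroupCongr (by rw [subgroupOf_map_subtype]))).symm
    · rintro x hx y hy w hw ⟨i, hi⟩ ⟨j, hj⟩ ⟨l, hl⟩
      refine Subtype.ext ?_
      have := hcl x hx y hy w hw ⟨i, congrArg Subtype.val hi⟩ ⟨j, congrArg Subtype.val hj⟩
        ⟨l, congrArg Subtype.val hl⟩
      simpa [commutatorElement_def] using this
  have hsol : Group.IsSolvable A := by
    refine (solvable_or_of_coprime (fun h => Cfsg.Agent.S0205.result h) (fun h => Cfsg.Agent.S0205.result h)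
      hcop).resolve_right hns
  haveI : Fact (Nat.Prime 2) := ⟨Nat.prime_two⟩
  by_cases hM1 : M = ⊥
  · subst hM1
    have hG1 : Nat.card G ≠ 1 := fun h => hMt (by
      haveI : Subsingleton G := (Nat.card_eq_one_iff_unique.1 h).1
      exact Subsingleton.elim _ _)
    obtain ⟨q, hq, hqd⟩ := Nat.exists_prime_and_dvd hG1
    haveI := Fact.mk hq
    obtain ⟨P, hP⟩ := exists_inv_sylow A.subtype hcop (Or.inl hsol) q
    have hPb : (P : Subgroup G) ≠ ⊥ := P.ne_bot_of_dvd_card hqd
    by_cases hPt : (P : Subgroup G) = ⊤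
    · apply hns
      haveI : Group.IsNilpotent (⊤ : Subgroup G) := hPt ▸ P.isPGroup'.isNilpotent
      haveI := Group.nilpotent_of_mulEquiv (topEquiv : (⊤ : Subgroup G) ≃* G)
      infer_instance
    · exact hPb (hmax _ bot_le hPt hP)
  have h2M : 2 ∣ Nat.card M := by
    obtain ⟨q, hq, hqd⟩ := Nat.exists_prime_and_dvd (fun h => hM1 (card_eq_one.1 h) : Nat.card M ≠ 1)
    by_cases h : q = 2
    · exact h ▸ hqd
    · exact absurd hqd (hodd q hq h)
  obtain ⟨S, hSM, hSi, hSN, hSb, hMS⟩ := hsyl 2 Nat.prime_two h2M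
  have hMeq : (S : Subgroup G) = M := by
    refine S.3 (IsPGroup.of_card (n := (Nat.card M).primeFactorsList.length) ?_) hSM |>.symm
    exact Nat.eq_prime_pow_of_unique_prime_dvd Nat.card_pos.ne' fun {q} hq hd => by
      by_contra hne; exact hodd q hq hne hd
  have hH : Hyp S := by
    refine ⟨fun x hx y hy w hw => ?_, fun g hg => ?_⟩
    · have htwo : ∀ a ∈ (S : Subgroup G), ∃ k, a ^ 2 ^ k = 1 := fun a ha => by
        obtain ⟨k, hk⟩ := S.2 ⟨a, ha⟩
        exact ⟨k, congrArg Subtype.val hk⟩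
      exact hcl x (hSM hx) y (hSM hy) w (hSM hw) (htwo x hx) (htwo y hy) (htwo w hw)
    · rw [hMeq, ← hSN]; exact hg
  have hA : Odd (Nat.card A) := by
    refine Nat.not_even_iff_odd.1 fun he => ?_
    have := Nat.dvd_gcd he.two_dvd (h2M.trans (card_subgroup_dvd_card M))
    rw [hcop.gcd_eq_one] at this
    omega
  have hnc : ¬ Cfsg.HasNormalPComplement 2 G := by
    intro hc
    rw [CfsgLib.Transfer.hasNormalPComplement_iff_coprime] at hc
    have hb : Cfsg.pResidual 2 G = ⊥ := hmin _ inferInstance (inv_of_characteristic _)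
      (Cfsg.Agent.S0205.result (coprime_two_iff.1 hc))
    apply hns
    have hpg : IsPGroup 2 G := by
      refine (CfsgLib.Transfer.isPGroup_quotient_pResidual (p := 2) (G := G)).of_equiv ?_
      exact (QuotientGroup.quotientMulEquivOfEq hb).trans QuotientGroup.quotientBot
    haveI := hpg.isNilpotent
    infer_instance
  obtain ⟨U, hU, hUb, u, huS, hu⟩ := exists_good S hH hnc
  have hAS : ∀ a : A, (S : Subgroup G).map (A.subtype a).toMonoidHom = S := fun a => hSi.map_eq a
  set X : Subgroup G := ⨆ a : A, U.map (A.subtype a).toMonoidHom with hX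
  have hXi : Inv A.subtype X := by
    refine inv_of_map_eq fun b => ?_
    rw [hX, Subgroup.map_iSup]
    refine le_antisymm (iSup_le fun a => ?_) (iSup_le fun a => ?_)
    · refine le_iSup_of_le (b * a) ?_
      rw [Subgroup.map_map]
      exact le_rfl
    · refine le_iSup_of_le (b⁻¹ * a) ?_
      rw [Subgroup.map_map, show (A.subtype b).toMonoidHom.comp (A.subtype (b⁻¹ * a)).toMonoidHom
        = (A.subtype (b * (b⁻¹ * a))).toMonoidHom from rfl, mul_inv_cancel_left]
  have hUX : U ≤ X := le_iSup_of_le (1 : A) (by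
    rw [map_one]
    exact (Subgroup.map_id U).ge)
  have hXS : X ≤ (S : Subgroup G) ⊓ centralizer (U : Set G) := by
    refine iSup_le fun a => le_inf (hAS a ▸ map_mono hU.le) ?_
    refine commute_translate hH.cl hU (A.subtype a) (hAS a) (m := orderOf a)
      (hA.of_dvd_nat (orderOf_dvd_natCard a)) ?_
    rw [← map_pow, pow_orderOf_eq_one, map_one]
  have hMX : M ≤ normalizer (X : Set G) := by
    rw [← hMeq]
    intro s hs
    rw [mem_normalizer_iff_map_conj_eq, hX, Subgroup.map_iSup]
    exact iSup_congr fun a => mem_normalizer_iff_map_conj_eq.1 ((hU.map (A.subtype a) (hAS a)).norm hs)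
  have hXb : X ≠ ⊥ := fun e => hUb (le_bot_iff.1 (e ▸ hUX))
  have := hmax _ hMX (hminP X (S.2.to_le (hXS.trans inf_le_left)) hXi hXb) hXi.normalizer
  exact huS (hMeq ▸ this ▸ hu X hUX hXS)

/-- The statement. -/
theorem solvable_of_maximal_nilpotent {G : Type*} [Group G] [Finite G] {A : Type*} [Group A] [Finite A]
    (φ : A →* MulAut G) (hcop : (Nat.card A).Coprime (Nat.card G))
    (M : Subgroup G) (hMtop : M ≠ ⊤) (hMinv : ∀ a : A, ∀ m : G, m ∈ M → φ a m ∈ M)
    (hMmax : ∀ H : Subgroup G, M ≤ H → H ≠ ⊤ → (∀ a : A, ∀ h : G, h ∈ H → φ a h ∈ H) → H = M)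
    (hnil : Group.IsNilpotent M) (h2 : ∀ S : Sylow 2 ↥M, Group.nilpotencyClass ↥(S : Subgroup ↥M) ≤ 2) :
    Group.IsSolvable G := by
  refine solvable_aux (Nat.card G) le_rfl φ.range (hcop.coprime_dvd_left (Subgroup.card_range_dvd φ)) M hMtop ?_ ?_
    hnil (classLeTwo_of_nilpotencyClass M h2)
  · rintro ⟨_, a, rfl⟩ x hx
    exact hMinv a x hx
  · exact fun H hMH hHt hH => hMmax H hMH hHt fun a x hx => hH ⟨φ a, a, rfl⟩ x hx

end CfsgLib.OddGated29.ClassTwo
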