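import Cfsg.Agent.Lib.Core.Cores
import Cfsg.Agent.Lib.LocalEvenB.BaerSuzuki

/-!
# Non-soluble groups have a subgroup with two coprime class sizes, given solubility for odd order
-/

set_option autoImplicit false
set_option linter.all false

namespace CfsgLib.OddGated29

open Subgroup
open scoped Pointwise

universe u

/-- A `2`-element `x` inverting an element `w` of odd prime order. -/
structure Inverts {G : Type u} [Group G] (x w : G) (q : ℕ) : Prop where
  prime : q.Prime
  odd : q ≠ 2
  order : orderOf w = q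
  two : ∃ k : ℕ, x ^ 2 ^ k = 1
  inv : x * w * x⁻¹ = w⁻¹

theorem exists_inverts {G : Type u} [Group G] [Finite G]
    (hodd : ∀ (H : Type u) [Group H] [Finite H], Odd (Nat.card H) → Group.IsSolvable H)
    (hG : ¬ Group.IsSolvable G) : ∃ (x w : G) (q : ℕ), Inverts x w q := by
  haveI : Fact (Nat.Prime 2) := ⟨Nat.prime_two⟩
  set R := Cfsg.pCore 2 G with hR
  have hR2 : IsPGroup 2 R := CfsgLib.Core.isPGroup_pCore 2 G
  set π := QuotientGroup.mk' R with hπ
  have hπs : Function.Surjective π := QuotientGroup.mk'_surjective R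
  have hπk : π.ker = R := QuotientGroup.ker_mk' R
  have heven : 2 ∣ Nat.card (G ⧸ R) := by
    by_contra h
    haveI := hodd (G ⧸ R) (Nat.not_even_iff_odd.1 fun he => h he.two_dvd)
    haveI := hR2.isNilpotent
    exact hG (solvable_of_ker_le_range R.subtype π (by rw [hπk, R.range_subtype]))
  obtain ⟨v, hv⟩ := exists_prime_orderOf_dvd_card' 2 heven
  have hvv : v * v = 1 := by
    have := pow_orderOf_eq_one v; rw [hv, pow_two] at this; exact this
  have hvO : v ∉ Cfsg.pCore 2 (G ⧸ R) := by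
    rw [CfsgLib.Core.pCore_quotient_pCore, mem_bot]
    rintro rfl; simp at hv
  obtain ⟨h, hh1, hhodd, hhinv⟩ := CfsgLib.LocalEvenB.exists_odd_inverted hvv hvO
  obtain ⟨q, hq, hqdvd⟩ := Nat.exists_prime_and_dvd (fun e => hh1 (orderOf_eq_one_iff.1 e) : orderOf h ≠ 1)
  haveI := Fact.mk hq
  have hq2 : q ≠ 2 := by
    rintro rfl
    exact Nat.not_even_iff_odd.2 hhodd (even_iff_two_dvd.2 hqdvd)
  set c := h ^ (orderOf h / q) with hc
  have hcq : orderOf c = q := orderOf_pow_orderOf_div (orderOf_pos h).ne' hqdvd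
  have hcinv : v * c * v⁻¹ = c⁻¹ := by rw [hc, ← conj_pow, hhinv, inv_pow]
  -- a preimage of order `q`
  obtain ⟨u, hu⟩ := hπs c
  obtain ⟨k, hk⟩ := hR2 ⟨u ^ q, by
    rw [← hπk, MonoidHom.mem_ker, map_pow, hu, ← hcq, pow_orderOf_eq_one]⟩
  have huk : (u ^ 2 ^ k) ^ q = 1 := by
    have := congrArg Subtype.val hk
    rw [SubgroupClass.coe_pow, OneMemClass.coe_one, ← pow_mul, mul_comm] at this
    rw [← pow_mul]; exact this
  set w := u ^ 2 ^ k with hw
  set c' := c ^ 2 ^ k with hc'
  have hπw : π w = c' := by rw [hw, map_pow, hu]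
  have hc'q : orderOf c' = q := by
    rw [hc', Nat.Coprime.orderOf_pow ?_, hcq]
    rw [hcq]; exact ((Nat.coprime_primes hq Nat.prime_two).2 hq2).pow_right k
  have hwq : orderOf w = q := orderOf_eq_prime huk fun e => by
    rw [e, map_one] at hπw; rw [← hπw, orderOf_one] at hc'q; exact hq.one_lt.ne hc'q
  have hc'inv : v * c' * v⁻¹ = c'⁻¹ := by rw [hc', ← conj_pow, hcinv, inv_pow]
  obtain ⟨x₀, hx₀⟩ := hπs v
  -- the two Sylow subgroups of the preimage of `⟨c'⟩`
  set W : Subgroup G := (zpowers c').comap π with hW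
  have hwW : zpowers w ≤ W := by rw [zpowers_le, hW, mem_comap, hπw]; exact mem_zpowers c'
  set w₂ := x₀ * w * x₀⁻¹ with hw₂
  have hw₂q : orderOf w₂ = q := by
    rw [← hwq, hw₂]; exact orderOf_injective (MulAut.conj x₀).toMonoidHom (MulAut.conj x₀).injective w
  have hw₂W : zpowers w₂ ≤ W := by
    rw [zpowers_le, hW, mem_comap, hw₂, map_mul, map_mul, map_inv, hx₀, hπw, hc'inv]
    exact inv_mem (mem_zpowers c')
  have hRW : R ≤ W := fun r hr => by
    rw [hW, mem_comap, MonoidHom.mem_ker.1 (show r ∈ π.ker by rw [hπk]; exact hr)]; exact one_mem _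
  obtain ⟨a, ha⟩ := IsPGroup.iff_card.1 hR2
  have hWcard : Nat.card W = 2 ^ a * q := by
    have h1 : R.relIndex W = q := by
      rw [← hπk, relIndex_ker, hW, map_comap_eq_self_of_surjective hπs, Nat.card_zpowers, hc'q]
    rw [← Subgroup.card_mul_index (R.subgroupOf W), Nat.card_congr (subgroupOfEquivOfLe hRW).toEquiv, ha,
      ← relIndex, h1]
  have hsyl : ∀ y : G, orderOf y = q → zpowers y ≤ W →
      ∃ P : Sylow q W, (P : Subgroup W) = (zpowers y).subgroupOf W := by
    intro y hy hyW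
    have hcard : Nat.card ((zpowers y).subgroupOf W) = q := by
      rw [Nat.card_congr (subgroupOfEquivOfLe hyW).toEquiv, Nat.card_zpowers, hy]
    have hidx : ¬ q ∣ ((zpowers y).subgroupOf W).index := by
      have := Subgroup.card_mul_index ((zpowers y).subgroupOf W)
      rw [hcard, hWcard, mul_comm (2 ^ a)] at this
      rw [Nat.eq_of_mul_eq_mul_left hq.pos this]
      exact fun hd => hq2 ((Nat.prime_dvd_prime_iff_eq hq Nat.prime_two).1 (hq.dvd_of_dvd_pow hd))
    exact ⟨(IsPGroup.of_card (n := 1) (by rw [pow_one, hcard])).toSylow hidx, rfl⟩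
  obtain ⟨P₁, hP₁⟩ := hsyl w hwq hwW
  obtain ⟨P₂, hP₂⟩ := hsyl w₂ hw₂q hw₂W
  obtain ⟨r, hr⟩ := MulAction.exists_smul_eq W P₁ P₂
  have hrw : ∀ y : G, y ∈ zpowers w₂ → (r : G)⁻¹ * y * r ∈ zpowers w := by
    intro y hy
    have hy' : (⟨y, hw₂W hy⟩ : W) ∈ (P₂ : Subgroup W) := by rw [hP₂, mem_subgroupOf]; exact hy
    rw [← hr, Sylow.smul_def, Sylow.pointwise_smul_def, Subgroup.mem_pointwise_smul_iff_inv_smul_mem,
      hP₁, mem_subgroupOf] at hy'
    simpa [← map_inv, mul_assoc] using hy'
  set x := (r : G)⁻¹ * x₀ with hx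
  obtain ⟨i, hi⟩ := mem_zpowers_iff.1 (show π (r : G) ∈ zpowers c' from r.2)
  have hxin : x * w * x⁻¹ ∈ zpowers w := by
    have := hrw w₂ (mem_zpowers _)
    rw [hw₂] at this
    rw [hx, mul_inv_rev, inv_inv]
    simpa [mul_assoc] using this
  have hπx : π x = (c' ^ i)⁻¹ * v := by rw [hx, map_mul, map_inv, hx₀, hi]
  have hπinv : π (x * w * x⁻¹) = c'⁻¹ := by
    rw [map_mul, map_mul, map_inv, hπw, hπx]
    calc (c' ^ i)⁻¹ * v * c' * ((c' ^ i)⁻¹ * v)⁻¹ = (c' ^ i)⁻¹ * (v * c' * v⁻¹) * c' ^ i := by group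
      _ = c'⁻¹ := by rw [hc'inv]; group
  refine ⟨x, w, q, hq, hq2, hwq, ?_, ?_⟩
  · have hsq : π (x ^ 2) = 1 := by
      rw [map_pow, hπx, pow_two]
      have hvi : v⁻¹ = v := inv_eq_of_mul_eq_one_right hvv
      have h2 : v * (c' ^ i)⁻¹ * v⁻¹ = c' ^ i := by
        rw [← zpow_neg, ← conj_zpow, hc'inv, inv_zpow, ← zpow_neg, neg_neg]
      calc (c' ^ i)⁻¹ * v * ((c' ^ i)⁻¹ * v) = (c' ^ i)⁻¹ * (v * (c' ^ i)⁻¹ * v⁻¹) * (v * v) := by group
        _ = 1 := by rw [h2, hvv]; group
    obtain ⟨j, hj⟩ := hR2 ⟨x ^ 2, by rw [← hπk, MonoidHom.mem_ker, hsq]⟩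
    refine ⟨j + 1, ?_⟩
    have := congrArg Subtype.val hj
    rw [SubgroupClass.coe_pow, OneMemClass.coe_one, ← pow_mul] at this
    rw [pow_succ, mul_comm]; exact this
  · obtain ⟨j, hj⟩ := mem_zpowers_iff.1 hxin
    have h1 : c' ^ j = c' ^ (-1 : ℤ) := by rw [← hπw, ← map_zpow, hj, hπinv, hπw, zpow_neg_one]
    rw [zpow_eq_zpow_iff_modEq, hc'q] at h1
    rw [← hj, ← zpow_neg_one w, zpow_eq_zpow_iff_modEq, hwq]
    exact h1

/-- The class sizes of `w` and of `x` in `⟨x, w⟩` are coprime and bigger than one. -/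
theorem coprime_class_sizes {G : Type u} [Group G] [Finite G] {x w : G} {q : ℕ} (h : Inverts x w q) :
    ∃ (H : Subgroup G) (a b : H), 1 < (centralizer ({a} : Set H)).index ∧
      1 < (centralizer ({b} : Set H)).index ∧
      ((centralizer ({a} : Set H)).index).Coprime (centralizer ({b} : Set H)).index := by
  haveI : Fact (Nat.Prime 2) := ⟨Nat.prime_two⟩
  haveI := Fact.mk h.prime
  set H := zpowers w ⊔ zpowers x with hH
  let a : H := ⟨w, mem_sup_left (mem_zpowers w)⟩
  let b : H := ⟨x, mem_sup_right (mem_zpowers x)⟩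
  refine ⟨H, a, b, ?_⟩
  have hHn : H ≤ normalizer (zpowers w : Set G) := by
    refine sup_le le_normalizer (zpowers_le.2 (mem_normalizer_fintype fun y hy => ?_))
    obtain ⟨i, rfl⟩ := mem_zpowers_iff.1 hy
    rw [← conj_zpow, h.inv]
    exact zpow_mem (inv_mem (mem_zpowers w)) i
  haveI hN : ((zpowers w).subgroupOf H).Normal := normal_subgroupOf_iff_le_normalizer le_sup_left |>.2 hHn
  have hsup : zpowers a ⊔ zpowers b = ⊤ := by
    apply map_injective H.subtype_injective
    rw [Subgroup.map_sup, MonoidHom.map_zpowers, MonoidHom.map_zpowers, ← MonoidHom.range_eq_map, range_subtype]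
    rfl
  have hna : zpowers a = (zpowers w).subgroupOf H := by
    apply map_injective H.subtype_injective
    rw [MonoidHom.map_zpowers, subgroupOf_map_subtype, inf_of_le_left le_sup_left]
    rfl
  haveI : (zpowers a).Normal := hna ▸ hN
  have hne : ¬ Commute a b := by
    intro hc
    have h1 : x * w = w * x := congrArg Subtype.val hc.symm.eq
    have h2 : w⁻¹ = w := by
      have := h.inv
      rw [h1, mul_inv_cancel_right] at this
      exact this.symm
    have h3 : w ^ 2 = 1 := by rw [pow_two]; nth_rewrite 1 [← h2]; exact inv_mul_cancel w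
    have := orderOf_dvd_of_pow_eq_one h3
    rw [h.order] at this
    exact h.odd ((Nat.prime_dvd_prime_iff_eq h.prime Nat.prime_two).1 this)
  have hlt : ∀ c d : H, ¬ Commute c d → 1 < (centralizer ({c} : Set H)).index := by
    intro c d hcd
    refine lt_of_le_of_ne (Nat.one_le_iff_ne_zero.2 index_ne_zero_of_finite) fun e => hcd ?_
    exact (mem_centralizer_singleton_iff.1 (index_eq_one.1 e.symm ▸ mem_top d)).symm
  refine ⟨hlt a b hne, hlt b a fun e => hne e.symm, ?_⟩
  have hsubb : zpowers a ⊔ centralizer ({b} : Set H) = ⊤ :=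
    top_le_iff.1 (hsup ▸ sup_le_sup_left (zpowers_le.2 (mem_centralizer_singleton_iff.2 rfl)) _)
  -- index of `C(b)` divides `q`
  have hb : (centralizer ({b} : Set H)).index ∣ q := by
    have h1 : (zpowers a).relIndex (centralizer ({b} : Set H)) * Nat.card (centralizer ({b} : Set H) ⊓ zpowers a : Subgroup H) = Nat.card (centralizer ({b} : Set H)) := by
      have := relIndex_mul_relIndex (⊥ : Subgroup H) (zpowers a ⊓ centralizer ({b} : Set H))
        (centralizer ({b} : Set H)) bot_le inf_le_right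
      rw [relIndex_bot_left, relIndex_bot_left, inf_relIndex_right] at this
      rw [inf_comm, mul_comm]; exact this
    have h2 : (zpowers a).index = (zpowers a).relIndex (centralizer ({b} : Set H)) := by
      rw [← relIndex_top_right, ← hsubb, sup_comm, relIndex_sup_right]
    have h3 := Subgroup.card_mul_index (zpowers a)
    have h4 := Subgroup.card_mul_index (centralizer ({b} : Set H))
    have hcardA : Nat.card (zpowers a) = q := by
      rw [Nat.card_zpowers, ← orderOf_injective H.subtype H.subtype_injective a]; exact h.order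
    rw [← h1, ← h2, ← h3, hcardA] at h4
    refine ⟨Nat.card (centralizer ({b} : Set H) ⊓ zpowers a : Subgroup H), ?_⟩
    have hpos : 0 < (zpowers a).index := Nat.pos_of_ne_zero index_ne_zero_of_finite
    nlinarith
  -- index of `C(a)` is a power of two
  have ha : ∃ k, (centralizer ({a} : Set H)).index ∣ 2 ^ k := by
    obtain ⟨k, hk⟩ := h.two
    refine ⟨k, ?_⟩
    have hle : zpowers a ≤ centralizer ({a} : Set H) := zpowers_le.2 (mem_centralizer_singleton_iff.2 rfl)
    refine (index_dvd_of_le hle).trans ?_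
    rw [← relIndex_top_right, ← hsup, sup_comm, relIndex_sup_right]
    refine (relIndex_dvd_card _ _).trans ?_
    rw [Nat.card_zpowers, ← orderOf_injective H.subtype H.subtype_injective b]
    exact orderOf_dvd_of_pow_eq_one hk
  obtain ⟨k, hk⟩ := ha
  exact ((((Nat.coprime_primes Nat.prime_two h.prime).2 (Ne.symm h.odd)).pow_left k).coprime_dvd_left hk).coprime_dvd_right hb

/-- S4159 given solubility of groups of odd order. -/
theorem isSolvable_of_noncoprime_class_sizes {G : Type u} [Group G] [Finite G]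
    (hodd : ∀ (H : Type u) [Group H] [Finite H], Odd (Nat.card H) → Group.IsSolvable H)
    (h : ∀ (H : Subgroup G) (x y : H), 1 < (centralizer ({x} : Set H)).index →
      1 < (centralizer ({y} : Set H)).index →
      ¬ ((centralizer ({x} : Set H)).index).Coprime (centralizer ({y} : Set H)).index) :
    Group.IsSolvable G := by
  by_contra hG
  obtain ⟨x, w, q, hxw⟩ := exists_inverts hodd hG
  obtain ⟨H, a, b, ha, hb, hab⟩ := coprime_class_sizes hxw
  exact h H a b ha hb hab

end CfsgLib.OddGated29
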