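import Cfsg.Agent.S0144
import Cfsg.Agent.S0253
import Cfsg.Agent.S0254
import Cfsg.Agent.S0330
import Cfsg.Agent.S1163
import Cfsg.Agent.S2475
import Cfsg.Agent.S2476
import Cfsg.Prelude

set_option autoImplicit false
set_option linter.style.haveILetI false

/-!
# Simple groups with at most five orbits of their automorphism group

At most five orbits leave at most five element orders, at least three of them `1` or prime (a simple
group is no group of order `pᵃqᵇ`), so at most one composite order: the classification of such groups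
(statement 3718, a hypothesis here) leaves a few families, whose orders are counted.
-/

namespace CfsgLib.OddGated29.Orbits

open Cfsg

universe u

/-- the conclusion of statement 3718 -/
def OneCompositeList (G : Type u) [Group G] : Prop :=
    (Nat.card G).Prime ∨
    (∃ (F : Type) (_ : Field F) (_ : Fintype F), (Fintype.card F = 5 ∨ Fintype.card F = 7 ∨ Fintype.card F = 8 ∨ Fintype.card F = 9 ∨
        Fintype.card F = 11 ∨ Fintype.card F = 13 ∨ Fintype.card F = 16) ∧ Nonempty (G ≃* Matrix.ProjectiveSpecialLinearGroup (Fin 2) F)) ∨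
    (∃ (F : Type) (_ : Field F) (_ : Fintype F), Fintype.card F = 4 ∧ Nonempty (G ≃* Matrix.ProjectiveSpecialLinearGroup (Fin 3) F)) ∨
    (∃ (F : Type) (_ : Field F) (_ : Fintype F), Fintype.card F = 8 ∧ Nonempty (G ≃* ↥(Cfsg.Lie.Sz F 4))) ∨
    (∃ (F : Type) (_ : Field F) (_ : Fintype F), ∃ n r s : ℕ, r.Prime ∧ s.Prime ∧ 3 ^ n - 1 = 2 * r ∧ 3 ^ n + 1 = 4 * s ∧
        Fintype.card F = 3 ^ n ∧ Nonempty (G ≃* Matrix.ProjectiveSpecialLinearGroup (Fin 2) F)) ∨
    (∃ (F : Type) (_ : Field F) (_ : Fintype F), ∃ n r : ℕ, (2 ^ n - 1).Prime ∧ r.Prime ∧ 2 ^ n + 1 = 3 * r ∧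
        Fintype.card F = 2 ^ n ∧ Nonempty (G ≃* Matrix.ProjectiveSpecialLinearGroup (Fin 2) F))

variable {G : Type u} [Group G] [Finite G]

theorem card_orders_le (h5 : Nat.card (MulAction.orbitRel.Quotient (MulAut G) G) ≤ 5)
    (s : Finset ℕ) (hs : ∀ n ∈ s, ∃ x : G, orderOf x = n) : s.card ≤ 5 := by
  classical
  choose f hf using hs
  let g : s → MulAction.orbitRel.Quotient (MulAut G) G := fun n => Quotient.mk'' (f n.1 n.2)
  have hg : Function.Injective g := by
    intro a b hab
    obtain ⟨φ, hφ⟩ := Quotient.eq''.1 hab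
    apply Subtype.ext
    rw [← hf a.1 a.2, ← hf b.1 b.2, ← hφ]
    exact φ.orderOf_eq _
  have := (Nat.card_le_card_of_injective g hg).trans h5
  simpa using this

theorem card_orders_le_of_range {X : Type*} [Group X] (e : G ≃* X) {S : Set ℕ}
    (hS : Set.range (orderOf : X → ℕ) = S)
    (h5 : Nat.card (MulAction.orbitRel.Quotient (MulAut G) G) ≤ 5)
    (s : Finset ℕ) (hs : ∀ n ∈ s, n ∈ S) : s.card ≤ 5 := by
  refine card_orders_le h5 s fun n hn => ?_
  obtain ⟨x, hx⟩ := hS.symm ▸ hs n hn
  exact ⟨e.symm x, by rw [e.symm.orderOf_eq, hx]⟩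

theorem false_of_two_primes [IsSimpleGroup G] (hG : ¬ IsMulCommutative G) (p q : ℕ) (hp : p.Prime)
    (hq : q.Prime) (h : (Nat.card G).primeFactors ⊆ {p, q}) : False := by
  classical
  obtain ⟨a, b, hab⟩ : ∃ a b : ℕ, Nat.card G = p ^ a * q ^ b := by
    have hne : Nat.card G ≠ 0 := Nat.card_pos.ne'
    have key : Nat.card G = ∏ r ∈ ({p, q} : Finset ℕ), r ^ (Nat.card G).factorization r := by
      rw [← Finset.prod_subset h (fun r _ hr => by
        rw [← Nat.support_factorization, Finsupp.notMem_support_iff] at hr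
        rw [hr, pow_zero])]
      exact (Nat.prod_factorization_pow_eq_self hne).symm
    by_cases hpq : p = q
    · subst hpq
      exact ⟨(Nat.card G).factorization p, 0, by rw [pow_zero, mul_one]; simpa using key⟩
    · exact ⟨(Nat.card G).factorization p, (Nat.card G).factorization q, by
        rwa [Finset.prod_pair hpq] at key⟩
  haveI := Cfsg.Agent.S0144.result p q a b hp hq hab
  exact hG ⟨⟨fun x y => IsSimpleGroup.comm_iff_isSolvable.2 inferInstance x y⟩⟩

theorem subsingleton_composite [IsSimpleGroup G] (hG : ¬ IsMulCommutative G)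
    (h5 : Nat.card (MulAction.orbitRel.Quotient (MulAut G) G) ≤ 5) :
    {n : ℕ | n ∈ Set.range (orderOf : G → ℕ) ∧ 1 < n ∧ ¬ n.Prime}.Subsingleton := by
  classical
  rintro m ⟨⟨x, hx⟩, hm1, hm⟩ n ⟨⟨y, hy⟩, hn1, hn⟩
  by_contra hne
  have h3 : 3 ≤ (Nat.card G).primeFactors.card := by
    by_contra hlt
    set S := (Nat.card G).primeFactors with hS
    rcases S.eq_empty_or_nonempty with h | ⟨p, hp⟩
    · exact false_of_two_primes hG 2 2 Nat.prime_two Nat.prime_two (by rw [← hS, h]; exact Finset.empty_subset _)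
    · rcases (S.erase p).eq_empty_or_nonempty with h | ⟨q, hq⟩
      · refine false_of_two_primes hG p p (Nat.prime_of_mem_primeFactors hp) (Nat.prime_of_mem_primeFactors hp) ?_
        intro r hr
        by_contra hrp
        have : r ∈ S.erase p := Finset.mem_erase.2 ⟨fun e => hrp (by simp [e]), hr⟩
        simp [h] at this
      · obtain ⟨hqp, hq⟩ := Finset.mem_erase.1 hq
        refine false_of_two_primes hG p q (Nat.prime_of_mem_primeFactors hp) (Nat.prime_of_mem_primeFactors hq) ?_
        intro r hr
        by_contra hrpq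
        simp only [Finset.mem_insert, Finset.mem_singleton, not_or] at hrpq
        have : ({p, q, r} : Finset ℕ) ⊆ S := by
          simp [Finset.insert_subset_iff, hp, hq, (hS ▸ hr : r ∈ S)]
        have := Finset.card_le_card this
        have hc : ({p, q, r} : Finset ℕ).card = 3 :=
          Finset.card_eq_three.2 ⟨p, q, r, hqp.symm, Ne.symm hrpq.1, Ne.symm hrpq.2, rfl⟩
        omega
  have hcount := card_orders_le h5 ({1, m, n} ∪ (Nat.card G).primeFactors) fun k hk => by
    rcases Finset.mem_union.1 hk with hk | hk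
    · simp only [Finset.mem_insert, Finset.mem_singleton] at hk
      rcases hk with rfl | rfl | rfl
      · exact ⟨1, orderOf_one⟩
      · exact ⟨x, hx⟩
      · exact ⟨y, hy⟩
    · haveI := Fact.mk (Nat.prime_of_mem_primeFactors hk)
      exact exists_prime_orderOf_dvd_card' k (Nat.dvd_of_mem_primeFactors hk)
  have hdisj : Disjoint ({1, m, n} : Finset ℕ) (Nat.card G).primeFactors := by
    rw [Finset.disjoint_left]
    intro k hk hk'
    have hkp := Nat.prime_of_mem_primeFactors hk'
    simp only [Finset.mem_insert, Finset.mem_singleton] at hk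
    rcases hk with rfl | rfl | rfl
    · exact Nat.not_prime_one hkp
    · exact hm hkp
    · exact hn hkp
  rw [Finset.card_union_of_disjoint hdisj,
    Finset.card_eq_three.2 ⟨1, m, n, by omega, by omega, hne, rfl⟩] at hcount
  omega

theorem false_of_three_pow {n r s : ℕ} (hr : r.Prime) (hs : s.Prime) (h1 : 3 ^ n - 1 = 2 * r)
    (h2 : 3 ^ n + 1 = 4 * s) :
    r ≠ 2 ∧ r ≠ 3 ∧ s ≠ 2 ∧ s ≠ 3 ∧ r ≠ s ∧ 3 < 3 ^ n := by
  have hr2 := hr.two_le
  have hs2 := hs.two_le
  have h3 : ∀ k : ℕ, 3 ^ n = k → (k = 5 ∨ k = 7 ∨ k = 11) → False := by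
    intro k hk hk'
    have hodd : 3 ∣ 3 ^ n ∨ 3 ^ n = 1 := by
      rcases Nat.eq_zero_or_pos n with rfl | hn
      · right; simp
      · left; exact dvd_pow_self 3 hn.ne'
    rcases hodd with h | h <;> omega
  refine ⟨fun h => h3 5 (by omega) (by omega), fun h => h3 7 (by omega) (by omega),
    fun h => h3 7 (by omega) (by omega), fun h => h3 11 (by omega) (by omega), ?_, ?_⟩ <;> omega

theorem main (h18 : {n : ℕ | n ∈ Set.range (orderOf : G → ℕ) ∧ 1 < n ∧ ¬ n.Prime}.Subsingleton →
      OneCompositeList G)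
    [IsSimpleGroup G] (hG : ¬ IsMulCommutative G)
    (h5 : Nat.card (MulAction.orbitRel.Quotient (MulAut G) G) ≤ 5) :
    Nonempty (G ≃* ↥(alternatingGroup (Fin 5))) ∨ Nonempty (G ≃* ↥(alternatingGroup (Fin 6))) ∨
      (∃ (F : Type) (_ : Field F) (_ : Fintype F), (Fintype.card F = 7 ∨ Fintype.card F = 8) ∧
        Nonempty (G ≃* Matrix.ProjectiveSpecialLinearGroup (Fin 2) F)) := by
  classical
  rcases h18 (subsingleton_composite hG h5) with h | ⟨F, _, _, hF, ⟨e⟩⟩ | ⟨F, _, _, hF, ⟨e⟩⟩ |
    ⟨F, _, _, hF, ⟨e⟩⟩ | ⟨F, _, _, n, r, s, hr, hs, h1, h2, hF, ⟨e⟩⟩ |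
    ⟨F, _, _, n, r, hM, hr, h2, hF, ⟨e⟩⟩
  · haveI := Fact.mk h
    haveI : IsCyclic G := isCyclic_of_prime_card rfl
    exact absurd IsCyclic.isMulCommutative hG
  · rcases hF with hF | hF | hF | hF | hF | hF | hF
    · exact Or.inl ⟨e.trans (Cfsg.Agent.S0253.result (F := F) hF).some⟩
    · exact Or.inr (Or.inr ⟨F, _, _, Or.inl hF, ⟨e⟩⟩)
    · exact Or.inr (Or.inr ⟨F, _, _, Or.inr hF, ⟨e⟩⟩)
    · exact Or.inr (Or.inl ⟨e.trans (Cfsg.Agent.S0254.result (F := F) hF).some⟩)
    · exfalso
      haveI := Fact.mk (by norm_num : Nat.Prime 11)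
      haveI : CharP F 11 := charP_of_card_eq_prime hF
      have := card_orders_le_of_range e (Cfsg.Agent.S2475.result (F := F) 11 (by omega)) h5
        {1, 2, 3, 5, 6, 11} (by intro k hk; fin_cases hk <;> simp [hF])
      simp at this
    · exfalso
      haveI := Fact.mk (by norm_num : Nat.Prime 13)
      haveI : CharP F 13 := charP_of_card_eq_prime hF
      have := card_orders_le_of_range e (Cfsg.Agent.S2475.result (F := F) 13 (by omega)) h5
        {1, 2, 3, 6, 7, 13} (by intro k hk; fin_cases hk <;> simp [hF])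
      simp at this
    · exfalso
      haveI := Fact.mk Nat.prime_two
      haveI : CharP F 2 := charP_of_card_eq_prime_pow (f := 4) (by rw [hF]; norm_num)
      have := card_orders_le_of_range e (Cfsg.Agent.S2475.result (F := F) 2 (by omega)) h5
        {1, 2, 3, 5, 15, 17} (by intro k hk; fin_cases hk <;> simp [hF])
      simp at this
  · exfalso
    haveI := Fact.mk Nat.prime_two
    haveI : CharP F 2 := charP_of_card_eq_prime_pow (f := 2) (by rw [hF]; norm_num)
    have := card_orders_le_of_range e (Cfsg.Agent.S2476.result (F := F) 2) h5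
      {1, 2, 3, 4, 5, 7} (by intro k hk; fin_cases hk <;> simp [hF])
    simp at this
  · exfalso
    haveI := Fact.mk Nat.prime_two
    haveI : CharP F 2 := charP_of_card_eq_prime_pow (f := 3) (by rw [hF]; norm_num)
    have hF' : Fintype.card F = 2 ^ (2 * 1 + 1) := by rw [hF]; norm_num
    have hcard : Nat.card G = 29120 := by
      rw [Nat.card_congr e.toEquiv]
      exact (Cfsg.Agent.S1163.result (le_refl 1) hF').1.trans (by norm_num)
    have h4 : ∃ x : G, orderOf x = 4 := by
      obtain ⟨P⟩ : Nonempty (Sylow 2 (Cfsg.Sz F 1)) := inferInstance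
      have hexp := (Cfsg.Agent.S0330.result (le_refl 1) hF' P).2.1
      by_contra hno
      have h2 : Monoid.exponent P ∣ 2 := by
        refine Monoid.exponent_dvd_of_forall_pow_eq_one fun x => ?_
        have hx : orderOf x ∣ 4 := by
          have hx := Monoid.order_dvd_exponent x
          rwa [hexp] at hx
        refine orderOf_dvd_iff_pow_eq_one.1 ?_
        have hle : orderOf x ≤ 4 := Nat.le_of_dvd (by norm_num) hx
        interval_cases hox : orderOf x
        · norm_num at hx
        · norm_num
        · norm_num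
        · norm_num at hx
        · exact absurd ⟨e.symm (CfsgLib.Lie.Suzuki.equivLie (le_refl 1) hF' (x : Cfsg.Sz F 1)),
            by rw [e.symm.orderOf_eq, MulEquiv.orderOf_eq, Subgroup.orderOf_coe, hox]⟩ hno
      rw [hexp] at h2
      norm_num at h2
    have := card_orders_le h5 {1, 2, 4, 5, 7, 13} fun k hk => by
      fin_cases hk
      · exact ⟨1, orderOf_one⟩
      · exact exists_prime_orderOf_dvd_card' 2 (by rw [hcard]; norm_num)
      · exact h4
      · haveI := Fact.mk (by norm_num : Nat.Prime 5)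
        exact exists_prime_orderOf_dvd_card' 5 (by rw [hcard]; norm_num)
      · haveI := Fact.mk (by norm_num : Nat.Prime 7)
        exact exists_prime_orderOf_dvd_card' 7 (by rw [hcard]; norm_num)
      · haveI := Fact.mk (by norm_num : Nat.Prime 13)
        exact exists_prime_orderOf_dvd_card' 13 (by rw [hcard]; norm_num)
    simp at this
  · exfalso
    obtain ⟨hr2, hr3, hs2, hs3, hrs, hlt⟩ := false_of_three_pow hr hs h1 h2
    haveI := Fact.mk Nat.prime_three
    haveI : CharP F 3 := charP_of_card_eq_prime_pow (f := n) (by rw [hF])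
    have hodd : Odd (3 ^ n) := Odd.pow (by decide)
    have hgcd : Nat.gcd 2 (3 ^ n - 1) = 2 := by rw [h1]; exact Nat.gcd_mul_right_right r 2
    have hq1 : (3 ^ n - 1) / 2 = r := by omega
    have hq2 : (3 ^ n + 1) / 2 = 2 * s := by omega
    have := card_orders_le_of_range e (Cfsg.Agent.S2475.result (F := F) 3 (by omega)) h5
      {1, 2, 3, r, s, 2 * s} (by
        intro k hk
        simp only [Finset.mem_insert, Finset.mem_singleton] at hk
        simp only [hF, hgcd, hq1, hq2, Set.mem_ofPred_eq]
        rcases hk with rfl | rfl | rfl | rfl | rfl | rfl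
        · exact Or.inl (one_dvd _)
        · exact Or.inr (Or.inr (dvd_mul_right _ _))
        · exact Or.inl dvd_rfl
        · exact Or.inr (Or.inl dvd_rfl)
        · exact Or.inr (Or.inr (dvd_mul_left _ _))
        · exact Or.inr (Or.inr dvd_rfl))
    have hr' := hr.two_le
    have hs' := hs.two_le
    have h2s : r ≠ 2 * s := fun h => by
      rcases (Nat.dvd_prime hr).1 ⟨s, h⟩ with h' | h' <;> omega
    rw [Finset.card_insert_of_notMem (by simp; omega), Finset.card_insert_of_notMem (by simp; omega),
      Finset.card_insert_of_notMem (by simp; omega), Finset.card_insert_of_notMem (by simp; omega),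
      Finset.card_insert_of_notMem (by simp; omega), Finset.card_singleton] at this
    omega
  · rcases Nat.lt_or_ge n 4 with hn | hn
    · interval_cases n
      · norm_num at hM
      · norm_num at hM
      · exfalso; omega
      · exact Or.inr (Or.inr ⟨F, _, _, Or.inr (by rw [hF]; norm_num), ⟨e⟩⟩)
    exfalso
    have h16 : 16 ≤ 2 ^ n := (by norm_num : 16 = 2 ^ 4) ▸ Nat.pow_le_pow_right (by norm_num) hn
    haveI := Fact.mk Nat.prime_two
    haveI : CharP F 2 := charP_of_card_eq_prime_pow (f := n) (by rw [hF])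
    have hev : 2 ∣ 2 ^ n := dvd_pow_self 2 (by omega)
    have hgcd : Nat.gcd 2 (2 ^ n - 1) = 1 := by
      refine (Nat.prime_two.coprime_iff_not_dvd.2 ?_)
      omega
    have := card_orders_le_of_range e (Cfsg.Agent.S2475.result (F := F) 2 (by omega)) h5
      {1, 2, 3, r, 2 ^ n - 1, 3 * r} (by
        intro k hk
        simp only [Finset.mem_insert, Finset.mem_singleton] at hk
        simp only [hF, hgcd, Nat.div_one, h2, Set.mem_ofPred_eq]
        rcases hk with rfl | rfl | rfl | rfl | rfl | rfl
        · exact Or.inl (one_dvd _)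
        · exact Or.inl dvd_rfl
        · exact Or.inr (Or.inr (dvd_mul_right _ _))
        · exact Or.inr (Or.inr (dvd_mul_left _ _))
        · exact Or.inr (Or.inl dvd_rfl)
        · exact Or.inr (Or.inr dvd_rfl))
    rw [Finset.card_insert_of_notMem (by simp; omega), Finset.card_insert_of_notMem (by simp; omega),
      Finset.card_insert_of_notMem (by simp; omega), Finset.card_insert_of_notMem (by simp; omega),
      Finset.card_insert_of_notMem (by simp; omega), Finset.card_singleton] at this
    omega

end CfsgLib.OddGated29.Orbits
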