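import Cfsg.Prelude.Def_Perm
import Cfsg.Agent.S0735
import Cfsg.Agent.Lib.SolvStruct.Primitive
import Cfsg.Agent.Lib.Recog.Huppert.Main
import Mathlib.GroupTheory.GroupAction.Primitive
import Mathlib.GroupTheory.GroupAction.SubMulAction.Combination
import Mathlib.Algebra.Group.Action.Pointwise.Finset

/-!
# Two-homogeneous groups which are not doubly transitive (Kantor), given solubility for odd order
-/

set_option autoImplicit false
set_option linter.all false
set_option maxHeartbeats 400000

open Cfsg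
open scoped Pointwise

namespace CfsgLib.OddGated29.Kantor

open Subgroup

variable {p : ℕ} [hp : Fact p.Prime] {V : Type*} [AddCommGroup V] [Module (ZMod p) V] [Finite V]
  [Nontrivial V] {H : Type*} [Group H] [Finite H]

theorem solvable_prod_units (hs : Group.IsSolvable H) : Group.IsSolvable (H × ℤˣ) := by
  haveI := hs
  infer_instance

omit [Finite V] [Nontrivial V] in
/-- An element of odd order negating a vector fixes it. -/
theorem eq_zero_of_neg (hp2 : p ≠ 2) (ρ : H →* (V ≃ₗ[ZMod p] V)) (hodd : Odd (Nat.card H))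
    {h : H} {v : V} (hv : ρ h v = -v) : v = 0 := by
  have hpow : ∀ n : ℕ, ρ (h ^ n) v = ((-1 : ℤ) ^ n) • v := by
    intro n
    induction n with
    | zero => simp
    | succ n ih => rw [pow_succ, map_mul, LinearEquiv.mul_apply, hv, map_neg, ih, pow_succ, mul_comm, mul_smul, neg_one_zsmul]
  have h1 := hpow (Nat.card H)
  rw [pow_card_eq_one', map_one, LinearEquiv.coe_one, id_eq, hodd.neg_one_pow, neg_one_zsmul] at h1
  have h2 : (2 : ZMod p) • v = 0 := by rw [two_smul]; nth_rewrite 2 [h1]; exact add_neg_cancel v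
  rcases smul_eq_zero.mp h2 with h | h
  · exfalso
    have h' : ((2 : ℕ) : ZMod p) = 0 := by exact_mod_cast h
    rw [ZMod.natCast_eq_zero_iff] at h'
    exact hp2 ((Nat.prime_dvd_prime_iff_eq hp.out Nat.prime_two).mp h')
  · exact h

/-- A solvable linear group of odd order which is transitive up to sign is semilinear. -/
theorem semilinear_of_signed (hp2 : p ≠ 2) (ρ : H →* (V ≃ₗ[ZMod p] V)) (hρ : Function.Injective ρ)
    (hodd : Odd (Nat.card H)) (hsol : Group.IsSolvable H)
    (htr : ∀ v w : V, v ≠ 0 → w ≠ 0 → ∃ h : H, ρ h v = w ∨ ρ h v = -w)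
    (hmod : Nat.card V % 4 = 3) :
    ∃ (F : Type) (_ : Field F) (_ : Fintype F) (e : V ≃+ F),
      ∀ h : H, ∃ (a : F) (σ : F ≃+* F), ∀ v : V, e (ρ h v) = a * σ (e v) := by
  have hsc : ∀ (u : ℤˣ) (h : H) (v : V), ρ h ((u : ℤ) • v) = (u : ℤ) • ρ h v := fun u h v =>
    map_zsmul (ρ h) _ v
  let sgn : ℤˣ →* (V ≃ₗ[ZMod p] V) :=
    { toFun := fun u =>
        { toFun := fun v => (u : ℤ) • v
          map_add' := fun a b => zsmul_add a b _
          map_smul' := fun c a => by rw [RingHom.id_apply]; exact smul_comm _ _ _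
          invFun := fun v => (u : ℤ) • v
          left_inv := fun v => by
            show (u : ℤ) • (u : ℤ) • v = v
            rw [← mul_smul, Int.units_coe_mul_self, one_smul]
          right_inv := fun v => by
            show (u : ℤ) • (u : ℤ) • v = v
            rw [← mul_smul, Int.units_coe_mul_self, one_smul] }
      map_one' := LinearEquiv.ext fun v => one_smul ℤ v
      map_mul' := fun a b => LinearEquiv.ext fun v => by
        show ((a * b : ℤˣ) : ℤ) • v = (a : ℤ) • (b : ℤ) • v
        rw [Units.val_mul, mul_smul] }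
  let ρ' : H × ℤˣ →* (V ≃ₗ[ZMod p] V) :=
    MonoidHom.noncommCoprod ρ sgn fun h u => LinearEquiv.ext fun v => hsc u h v
  have hρ' : ∀ (x : H × ℤˣ) (v : V), ρ' x v = ρ x.1 ((x.2 : ℤ) • v) := fun x v => rfl
  have hinj : Function.Injective ρ' := by
    refine (injective_iff_map_eq_one _).mpr ?_
    rintro ⟨h, u⟩ hx
    rcases Int.units_eq_one_or u with rfl | rfl
    · refine Prod.ext (hρ (LinearEquiv.ext fun v => ?_)) rfl
      have := LinearEquiv.congr_fun hx v
      rw [hρ'] at this
      simpa using this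
    · exfalso
      obtain ⟨v, hv⟩ := exists_ne (0 : V)
      have := LinearEquiv.congr_fun hx v
      rw [hρ', Units.val_neg, Units.val_one, neg_one_zsmul, map_neg, LinearEquiv.coe_one, id_eq,
        neg_eq_iff_eq_neg] at this
      exact hv (eq_zero_of_neg hp2 ρ hodd this)
  haveI := solvable_prod_units hsol
  rcases CfsgLib.Recog.Huppert.semilinear_or_exceptional (ρ := ρ') hinj (fun v w hv hw => by
      obtain ⟨h, e | e⟩ := htr v w hv hw
      · exact ⟨(h, 1), by rw [hρ', Units.val_one, one_smul]; exact e⟩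
      · exact ⟨(h, -1), by rw [hρ', Units.val_neg, Units.val_one, neg_one_zsmul, map_neg, e, neg_neg]⟩)
    with ⟨F, i1, i2, e, he⟩ | hbad
  · refine ⟨F, i1, i2, e, fun h => ?_⟩
    obtain ⟨a, σ, hσ⟩ := he (h, 1)
    exact ⟨a, σ, fun v => by have := hσ v; rwa [hρ', Units.val_one, one_smul] at this⟩
  · exfalso
    simp only [Set.mem_insert_iff, Set.mem_singleton_iff] at hbad
    omega

/-- The group of odd order has two orbits on the nonzero vectors, of odd length. -/
theorem card_mod_four (hp2 : p ≠ 2) (ρ : H →* (V ≃ₗ[ZMod p] V)) (hodd : Odd (Nat.card H))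
    (htr : ∀ v w : V, v ≠ 0 → w ≠ 0 → ∃ h : H, ρ h v = w ∨ ρ h v = -w) :
    Nat.card V % 4 = 3 := by
  classical
  obtain ⟨v, hv⟩ := exists_ne (0 : V)
  letI : MulAction H V := MulAction.compHom V ρ
  have hsmul : ∀ (h : H) (x : V), h • x = ρ h x := fun h x => rfl
  set O : Set V := MulAction.orbit H v with hO
  have hunion : ({0} : Set V)ᶜ = O ∪ (fun x => -x) '' O := by
    ext w
    constructor
    · intro hw
      obtain ⟨h, e | e⟩ := htr v w hv hw
      · exact Or.inl ⟨h, e⟩
      · exact Or.inr ⟨ρ h v, ⟨h, rfl⟩, by show -(ρ h v) = w; rw [e, neg_neg]⟩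
    · rintro (⟨h, rfl⟩ | ⟨_, ⟨h, rfl⟩, rfl⟩)
      · exact fun e => hv ((LinearEquiv.map_eq_zero_iff (ρ h)).mp e)
      · exact fun e => hv ((LinearEquiv.map_eq_zero_iff (ρ h)).mp (neg_eq_zero.mp e))
  have hdisj : Disjoint O ((fun x => -x) '' O) := by
    rw [Set.disjoint_left]
    rintro w ⟨h, rfl⟩ ⟨_, ⟨k, rfl⟩, e⟩
    replace e : -(ρ k v) = ρ h v := e
    have h1 : ρ (h⁻¹ * k) v = -v := by
      rw [map_mul, LinearEquiv.mul_apply, show ρ k v = -(ρ h v) by rw [← e, neg_neg], map_neg,
        ← LinearEquiv.mul_apply, ← map_mul, inv_mul_cancel, map_one]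
      rfl
    exact hv (eq_zero_of_neg hp2 ρ hodd h1)
  have hcard : ({0} : Set V)ᶜ.ncard = O.ncard + O.ncard := by
    rw [hunion, Set.ncard_union_eq hdisj (Set.toFinite _) (Set.toFinite _),
      Set.ncard_image_of_injective _ neg_injective]
  rw [Set.ncard_compl, Set.ncard_singleton] at hcard
  have hOodd : Odd O.ncard := by
    refine hodd.of_dvd_nat ?_
    rw [← Nat.card_coe_set_eq, Nat.card_congr (MulAction.orbitEquivQuotientStabilizer H v)]
    exact Subgroup.card_quotient_dvd_card _
  have h1 : 0 < Nat.card V := Nat.card_pos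
  rcases hOodd with ⟨k, hk⟩
  omega

end CfsgLib.OddGated29.Kantor

namespace CfsgLib.OddGated29

open Subgroup

/-- Kantor's theorem on two-homogeneous groups which are not doubly transitive, given that
groups of odd order are solvable. -/
theorem statement0737 {α : Type*} [Fintype α] [DecidableEq α] (G : Subgroup (Equiv.Perm α))
    (hsol : Odd (Nat.card G) → Group.IsSolvable G) (hne : G ≠ ⊥)
    (h2 : MulAction.IsPretransitive G (Set.powersetCard α 2))
    (hn2 : ¬ MulAction.IsMultiplyPretransitive G α 2) :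
    Odd (Nat.card G) ∧ ∃ (p f : ℕ) (_ : Fact p.Prime), p ≠ 2 ∧ Fintype.card α = p ^ f ∧ p ^ f % 4 = 3 ∧
      ∃ e : α ≃ GaloisField p f,
        (∀ g : G, e.symm.trans (((g : Equiv.Perm α)).trans e) ∈ Cfsg.semiaffineGroup (GaloisField p f)) ∧
        ∀ b : GaloisField p f, ∃ g : G, ∀ x : α, e ((g : Equiv.Perm α) x) = e x + b := by
  classical
  -- there are at least three points
  have h3 : 3 ≤ Fintype.card α := by
    by_contra hlt
    rcases (show Fintype.card α ≤ 1 ∨ Fintype.card α = 2 by omega) with h | h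
    · haveI := Fintype.card_le_one_iff_subsingleton.mp h
      exact hne ((Subgroup.eq_bot_iff_forall G).mpr fun g _ => Equiv.ext fun x => Subsingleton.elim _ _)
    · apply hn2
      rw [MulAction.is_two_pretransitive_iff]
      obtain ⟨t, htG, ht1⟩ : ∃ t ∈ G, t ≠ 1 := by
        by_contra! hh
        exact hne ((Subgroup.eq_bot_iff_forall G).mpr hh)
      obtain ⟨u, hu⟩ : ∃ u, t u ≠ u := by
        by_contra! hh
        exact ht1 (Equiv.ext hh)
      have htwo : ∀ a b c : α, a ≠ b → c ≠ a → c = b := by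
        intro a b c hab hca
        by_contra hcb
        have h1 := Finset.card_le_univ ({a, b, c} : Finset α)
        rw [Finset.card_eq_three.mpr ⟨a, b, c, hab, Ne.symm hca, Ne.symm hcb, rfl⟩, h] at h1
        omega
      intro a b c d hab hcd
      by_cases hca : c = a
      · subst hca
        exact ⟨1, one_smul _ _, by rw [one_smul]; exact (htwo c b d hab (Ne.symm hcd)).symm⟩
      · have hswap : ∀ x : α, t x ≠ x := fun x hx => by
          by_cases hxu : x = u
          · exact hu (hxu ▸ hx)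
          · have h1 : t u = x := htwo u x (t u) (Ne.symm hxu) hu
            rw [← hx] at h1
            exact hxu (t.injective h1).symm
        have hc : c = b := htwo a b c hab hca
        have hd : d = a := htwo b a d (Ne.symm hab) (hc ▸ Ne.symm hcd)
        refine ⟨⟨t, htG⟩, ?_, ?_⟩
        · show t a = c
          rw [hc]; exact htwo a b _ hab (hswap a)
        · show t b = d
          rw [hd]; exact htwo b a _ (Ne.symm hab) (hswap b)
  obtain ⟨hev, hpr⟩ := Cfsg.Agent.S0735.result G h2 h3
  have hodd : Odd (Nat.card G) := by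
    rcases Nat.even_or_odd (Nat.card G) with h | h
    · exact absurd (hev h) hn2
    · exact h
  refine ⟨hodd, ?_⟩
  haveI hs := hsol hodd
  have hprim := hpr hne
  haveI := hprim.toIsPretransitive
  haveI : Nonempty α := Fintype.card_pos_iff.mp (by omega)
  haveI : Nontrivial α := Fintype.one_lt_card_iff_nontrivial.mp (by omega)
  obtain ⟨a₀⟩ := ‹Nonempty α›
  -- a minimal normal subgroup
  have hGnt : (⊤ : Subgroup G) ≠ ⊥ := by
    intro h
    apply hne
    refine (Subgroup.eq_bot_iff_forall G).mpr fun g hg => ?_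
    have : (⟨g, hg⟩ : G) ∈ (⊥ : Subgroup G) := h ▸ Subgroup.mem_top _
    exact congrArg Subtype.val (Subgroup.mem_bot.mp this)
  obtain ⟨M, ⟨hMn, hM0⟩, hmin⟩ := (wellFounded_lt (α := Subgroup G)).has_min
    {K : Subgroup G | K.Normal ∧ K ≠ ⊥} ⟨⊤, inferInstance, hGnt⟩
  haveI := hMn
  have hmin' : ∀ K : Subgroup G, K.Normal → K ≤ M → K = ⊥ ∨ K = M := fun K hK hKM => by
    by_contra! h
    exact hmin K ⟨hK, h.1⟩ (lt_of_le_of_ne hKM h.2)
  have hU : IsCoatom (MulAction.stabilizer G a₀) :=
    MulAction.IsPreprimitive.isCoatom_stabilizer_of_isPreprimitive G a₀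
  have hcore : (MulAction.stabilizer G a₀).normalCore = ⊥ := by
    rw [Subgroup.eq_bot_iff_forall]
    intro x hx
    refine Subtype.ext (Equiv.ext fun y => ?_)
    obtain ⟨g, rfl⟩ := MulAction.exists_smul_eq G a₀ y
    have := (Subgroup.normalCore_le _) ((Subgroup.normalCore_normal _).conj_mem x hx g⁻¹)
    rw [MulAction.mem_stabilizer_iff, inv_inv, mul_smul, mul_smul, inv_smul_eq_iff] at this
    exact this
  obtain ⟨p, hp, hMp, hMc, hexp, hcent, hcomp⟩ :=
    CfsgLib.SolvStruct.solvable_minimal_normal hU hcore hMn hM0 hmin'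
  haveI := Fact.mk hp
  haveI := hMc
  obtain ⟨f, hf⟩ := hMp.exists_card_eq
  -- `α` is identified with `M`
  let π : M → α := fun m => (m : G) • a₀
  have hπ : Function.Bijective π := by
    refine ⟨fun m n hmn => ?_, fun x => ?_⟩
    · have h1 : ((n⁻¹ * m : M) : G) ∈ M ⊓ MulAction.stabilizer G a₀ := by
        refine ⟨(n⁻¹ * m).2, MulAction.mem_stabilizer_iff.mpr ?_⟩
        rw [Subgroup.coe_mul, mul_smul, show (m : G) • a₀ = (n : G) • a₀ from hmn, ← mul_smul,
          ← Subgroup.coe_mul, inv_mul_cancel, Subgroup.coe_one, one_smul]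
      rw [hcomp.disjoint.eq_bot, Subgroup.mem_bot] at h1
      exact (inv_mul_eq_one.mp (Subtype.ext h1)).symm
    · obtain ⟨g, rfl⟩ := MulAction.exists_smul_eq G a₀ x
      obtain ⟨⟨m, u⟩, hmu, -⟩ := hcomp.existsUnique g
      exact ⟨m, by
        show (m : G) • a₀ = g • a₀
        rw [← hmu, mul_smul, MulAction.mem_stabilizer_iff.mp u.2]⟩
  have hcardM : Nat.card M = Fintype.card α := by
    rw [Nat.card_eq_of_bijective π hπ, Nat.card_eq_fintype_card]
  have hnα : Fintype.card α = p ^ f := hcardM ▸ hf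
  have hf0 : f ≠ 0 := by
    intro h
    rw [h, pow_zero] at hnα
    omega
  have hp2 : p ≠ 2 := by
    intro h
    have h1 : 2 ∣ Nat.card G :=
      (h ▸ dvd_pow_self p hf0 : 2 ∣ p ^ f).trans (hf ▸ M.card_subgroup_dvd_card)
    exact (Nat.not_even_iff_odd.mpr hodd) (even_iff_two_dvd.mpr h1)
  -- the linear representation of the point stabiliser
  letI : CommGroup M := { (inferInstance : Group M) with mul_comm := fun a b => hMc.is_comm.comm a b }
  let V := Additive M
  letI : AddCommGroup V := inferInstanceAs (AddCommGroup (Additive M))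
  letI : Module (ZMod p) V := AddCommGroup.zmodModule (n := p) fun v =>
    congrArg Additive.ofMul (show (Additive.toMul v) ^ p = 1 from Subtype.ext (hexp _ (Additive.toMul v).2))
  haveI : Finite V := inferInstanceAs (Finite M)
  haveI : Nontrivial V := Finite.one_lt_card_iff_nontrivial.mp (by
    show 1 < Nat.card M
    rw [hcardM]; omega)
  let H := MulAction.stabilizer G a₀
  let ρ : H →* (V ≃ₗ[ZMod p] V) :=
    { toFun := fun h => (MulEquiv.toAdditive (MulAut.conjNormal (h : G) : MulAut M)).toLinearEquiv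
        (ZMod.map_smul (MulEquiv.toAdditive (MulAut.conjNormal (h : G) : MulAut M)).toAddMonoidHom)
      map_one' := LinearEquiv.ext fun v => by
        show Additive.ofMul ((MulAut.conjNormal ((1 : H) : G) : MulAut M) (Additive.toMul v)) = v
        rw [Subgroup.coe_one, map_one]; rfl
      map_mul' := fun h k => LinearEquiv.ext fun v => by
        show Additive.ofMul ((MulAut.conjNormal ((h * k : H) : G) : MulAut M) (Additive.toMul v)) =
          Additive.ofMul ((MulAut.conjNormal (h : G) : MulAut M)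
            ((MulAut.conjNormal (k : G) : MulAut M) (Additive.toMul v)))
        rw [Subgroup.coe_mul, map_mul]; rfl }
  have hρapp : ∀ (h : H) (m : M), π (Additive.toMul (ρ h (Additive.ofMul m))) = (h : G) • π m := by
    intro h m
    show ((MulAut.conjNormal (h : G) m : M) : G) • a₀ = (h : G) • (m : G) • a₀
    rw [MulAut.conjNormal_apply, mul_smul, mul_smul,
      inv_smul_eq_iff.mpr (MulAction.mem_stabilizer_iff.mp h.2).symm]
  have hρinj : Function.Injective ρ := by
    refine (injective_iff_map_eq_one _).mpr fun h hh => ?_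
    refine Subtype.ext (eq_of_smul_eq_smul (α := α) fun x => ?_)
    obtain ⟨m, rfl⟩ := hπ.2 x
    rw [← hρapp, hh, Subgroup.coe_one, one_smul]
    rfl
  have hHodd : Odd (Nat.card H) := hodd.of_dvd_nat (H.card_subgroup_dvd_card)
  -- transitivity up to sign
  have hπ1 : π 1 = a₀ := one_smul G a₀
  have hpair : ∀ {a b c d : α}, a ≠ b → c ≠ d →
      ∃ g : G, (g • a = c ∧ g • b = d) ∨ (g • a = d ∧ g • b = c) := by
    intro a b c d hab hcd
    obtain ⟨g, hg⟩ := MulAction.exists_smul_eq G
      (⟨{a, b}, Finset.card_pair hab⟩ : Set.powersetCard α 2) ⟨{c, d}, Finset.card_pair hcd⟩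
    refine ⟨g, ?_⟩
    have hg' : g • ({a, b} : Finset α) = {c, d} := congrArg Subtype.val hg
    have k1 : g • a ∈ ({c, d} : Finset α) := hg' ▸ Finset.smul_mem_smul_finset (by simp)
    have k2 : g • b ∈ ({c, d} : Finset α) := hg' ▸ Finset.smul_mem_smul_finset (by simp)
    have hne : g • a ≠ g • b := fun h => hab (MulAction.injective g h)
    simp only [Finset.mem_insert, Finset.mem_singleton] at k1 k2
    grind
  have htr : ∀ v w : V, v ≠ 0 → w ≠ 0 → ∃ h : H, ρ h v = w ∨ ρ h v = -w := by
    intro v w hv hw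
    obtain ⟨m, rfl⟩ := Additive.ofMul.surjective v
    obtain ⟨n, rfl⟩ := Additive.ofMul.surjective w
    have hm : π 1 ≠ π m := fun e => hv (congrArg Additive.ofMul (hπ.1 e).symm)
    have hn : π 1 ≠ π n := fun e => hw (congrArg Additive.ofMul (hπ.1 e).symm)
    rw [hπ1] at hm hn
    obtain ⟨g, ⟨e1, e2⟩ | ⟨e1, e2⟩⟩ := hpair hm hn
    · refine ⟨⟨g, MulAction.mem_stabilizer_iff.mpr e1⟩, Or.inl ?_⟩
      refine Additive.toMul.injective (hπ.1 ?_)
      rw [hρapp]; exact e2
    · have e3 : ((n : G)⁻¹ * g) • a₀ = a₀ := by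
        rw [mul_smul, e1, inv_smul_eq_iff]
      refine ⟨⟨(n : G)⁻¹ * g, MulAction.mem_stabilizer_iff.mpr e3⟩, Or.inr ?_⟩
      refine Additive.toMul.injective (hπ.1 ?_)
      rw [hρapp]
      show ((n : G)⁻¹ * g) • π m = ((n⁻¹ : M) : G) • a₀
      rw [mul_smul, e2, Subgroup.coe_inv]
  have hcardV : Nat.card V = p ^ f := hf
  have hmod : Nat.card V % 4 = 3 := Kantor.card_mod_four hp2 ρ hHodd htr
  obtain ⟨F, iF, iF2, e, he⟩ := Kantor.semilinear_of_signed hp2 ρ hρinj hHodd inferInstance htr hmod
  haveI : Fintype (GaloisField p f) := Fintype.ofFinite _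
  have hcF : Fintype.card F = Fintype.card (GaloisField p f) := by
    rw [← Nat.card_eq_fintype_card, ← Nat.card_eq_fintype_card, GaloisField.card p f hf0,
      ← Nat.card_congr e.toEquiv, hcardV]
  let θ : F ≃+* GaloisField p f := FiniteField.ringEquivOfCardEq hcF
  -- coordinates
  let c : M → GaloisField p f := fun m => θ (e (Additive.ofMul m))
  have hc : Function.Bijective c :=
    θ.bijective.comp (e.bijective.comp Additive.ofMul.bijective)
  have hcmul : ∀ m n : M, c (m * n) = c m + c n := fun m n => by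
    show θ (e (Additive.ofMul m + Additive.ofMul n)) = _
    rw [map_add, map_add]
  let E : α ≃ GaloisField p f := (Equiv.ofBijective π hπ).symm.trans (Equiv.ofBijective c hc)
  have hE : ∀ m : M, E (π m) = c m := fun m => by
    show c ((Equiv.ofBijective π hπ).symm (π m)) = c m
    rw [Equiv.ofBijective_symm_apply_apply]
  refine ⟨p, f, inferInstance, hp2, hnα, hcardV ▸ hmod, E, fun g => ?_, fun b => ?_⟩
  · obtain ⟨⟨m, h⟩, hmh, -⟩ := hcomp.existsUnique g
    obtain ⟨a, σ, hσ⟩ := he h
    have ha : a ≠ 0 := by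
      intro ha
      obtain ⟨v, hv⟩ := exists_ne (0 : V)
      have := hσ v
      rw [ha, zero_mul, map_eq_zero_iff e e.injective, LinearEquiv.map_eq_zero_iff] at this
      exact hv this
    have ha' : θ a ≠ 0 := fun h => ha ((map_eq_zero_iff θ θ.injective).mp h)
    refine ⟨Units.mk0 (θ a) ha', c m, (θ.symm.trans σ).trans θ, fun x => ?_⟩
    obtain ⟨n, rfl⟩ : ∃ n, c n = x := hc.2 x
    show E (g • E.symm (c n)) = θ a * θ (σ (θ.symm (c n))) + c m
    rw [show E.symm (c n) = π n by rw [← hE, Equiv.symm_apply_apply], ← hmh, mul_smul, ← hρapp,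
      show (m : G) • π (Additive.toMul (ρ h (Additive.ofMul n))) =
        π (m * Additive.toMul (ρ h (Additive.ofMul n))) by
          show (m : G) • (_ : G) • a₀ = _; rw [← mul_smul]; rfl,
      hE, hcmul, add_comm]
    congr 1
    show θ (e (ρ h (Additive.ofMul n))) = _
    rw [hσ, map_mul, show θ.symm (c n) = e (Additive.ofMul n) from θ.symm_apply_apply _]
  · obtain ⟨m, rfl⟩ := hc.2 b
    refine ⟨(m : G), fun x => ?_⟩
    obtain ⟨n, rfl⟩ := hπ.2 x
    show E ((m : G) • π n) = E (π n) + c m
    rw [show (m : G) • π n = π (m * n) by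
      show (m : G) • (n : G) • a₀ = _; rw [← mul_smul]; rfl, hE, hE, hcmul, add_comm]

end CfsgLib.OddGated29
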