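import Cfsg.Agent.Lib.ZStar.Main
import Mathlib.GroupTheory.Sylow
import Mathlib.GroupTheory.GroupAction.Quotient
import Mathlib.GroupTheory.Perm.Cycle.Type

set_option autoImplicit false
set_option linter.style.haveILetI false

/-!
# A coprime automorphism cannot centralise the centraliser of an involution

Let `α` be an automorphism of coprime prime order of a finite simple group `G`, with fixed point
group `H`, and suppose `C_G(τ) ≤ H`.  Then `g τ g⁻¹ ∈ H` forces `g ∈ H`, so each left coset of `H`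
contains on average `|τ^G ∩ H|` conjugates of `τ`.  For the conjugates in one coset `s H`, an
element `c` centralising all quotients `s s'` moves `s`, hence all of them, into `H` (Sylow applied
to the `α`-invariant group `C(Z)⟨s⟩`).  So every coset meets the class in exactly `|τ^G ∩ H|`
elements, all products of two members of `τ^G ∩ H` lie in the core of `H`, and `τ` is isolated,
against the Z*-theorem.
-/

namespace CfsgLib.OddGated29.Moves

open Subgroup Cfsg
open scoped Pointwise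

universe u

variable {G : Type u} [Group G] [Finite G]

/-- the fixed point subgroup -/
def fixedSub (α : MulAut G) : Subgroup G := α.toMonoidHom.eqLocus (MonoidHom.id G)

theorem mem_fixedSub {α : MulAut G} {g : G} : g ∈ fixedSub α ↔ α g = g := Iff.rfl

theorem eq_of_mul_fixed {α : MulAut G} (hcop : (orderOf α).Coprime (Nat.card G)) {g c : G}
    (hg : α g = g * c) (hc : α c = c) : c = 1 := by
  have key : ∀ i : ℕ, (α ^ i) g = g * c ^ i := by
    intro i
    induction i with
    | zero => simp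
    | succ i ih =>
      rw [pow_succ', MulAut.mul_apply, ih, map_mul, map_pow, hg, hc, mul_assoc, pow_succ']
  have h1 := key (orderOf α)
  rw [pow_orderOf_eq_one, MulAut.one_apply] at h1
  have h2 : c ^ orderOf α = 1 := by simpa using h1.symm
  have h3 : orderOf c ∣ Nat.gcd (orderOf α) (Nat.card G) :=
    Nat.dvd_gcd (orderOf_dvd_of_pow_eq_one h2) (orderOf_dvd_natCard c)
  rw [hcop] at h3
  exact orderOf_eq_one_iff.1 (Nat.dvd_one.1 h3)

variable {α : MulAut G} {τ : G}

theorem mem_of_conj_mem (hcop : (orderOf α).Coprime (Nat.card G)) (hτ : α τ = τ)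
    (hC : ∀ x, Commute x τ → α x = x) {g : G} (h : g * τ * g⁻¹ ∈ fixedSub α) :
    g ∈ fixedSub α := by
  rw [mem_fixedSub, map_mul, map_mul, map_inv, hτ] at h
  set d := g⁻¹ * α g with hd
  have hag : α g = g * d := by rw [hd]; group
  have hcomm : Commute d τ := by
    rw [hag] at h
    have h2 : d * τ * d⁻¹ = τ := by
      calc d * τ * d⁻¹ = g⁻¹ * ((g * d) * τ * (g * d)⁻¹) * g := by group
        _ = τ := by rw [h]; group
    exact mul_inv_eq_iff_eq_mul.1 h2
  rw [mem_fixedSub, hag, eq_of_mul_fixed hcop hag (hC d hcomm), mul_one]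

/-- A `2`-group containing `τ` is centralised. -/
theorem le_fixedSub_of_mem (hcop : (orderOf α).Coprime (Nat.card G)) (hτ : α τ = τ)
    (hC : ∀ x, Commute x τ → α x = x) (Q : Subgroup G) (hQ : IsPGroup 2 Q) (hτQ : τ ∈ Q) :
    Q ≤ fixedSub α := by
  haveI : Fact (Nat.Prime 2) := ⟨Nat.prime_two⟩
  haveI : Group.IsNilpotent Q := hQ.isNilpotent
  by_contra hne
  have hlt : (fixedSub α).subgroupOf Q < ⊤ :=
    lt_top_iff_ne_top.2 fun h => hne (Subgroup.subgroupOf_eq_top.1 h)
  obtain ⟨g, hg, hgn⟩ :=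
    SetLike.exists_of_lt (Group.normalizerCondition_of_isNilpotent _ hlt)
  refine hgn (Subgroup.mem_subgroupOf.2 (mem_of_conj_mem hcop hτ hC ?_))
  have := (Subgroup.mem_normalizer_iff.1 hg ⟨τ, hτQ⟩).1 (Subgroup.mem_subgroupOf.2 hτ)
  exact Subgroup.mem_subgroupOf.1 this

/-- A conjugate of `τ` in an invariant `2`-group is centralised. -/
theorem conj_mem_of_invariant (hcop : (orderOf α).Coprime (Nat.card G)) (hτ : α τ = τ)
    (hC : ∀ x, Commute x τ → α x = x) (Q : Subgroup G) (hQ : IsPGroup 2 Q)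
    (hinv : ∀ x ∈ Q, α x ∈ Q) {g : G} (hg : g * τ * g⁻¹ ∈ Q) :
    g * τ * g⁻¹ ∈ fixedSub α := by
  let Q' : Subgroup G := Q.comap (MulAut.conj g).toMonoidHom
  have hQ' : IsPGroup 2 Q' := hQ.comap_of_injective _ (MulAut.conj g).injective
  have hmem : ∀ x, x ∈ Q' ↔ g * x * g⁻¹ ∈ Q := fun x => Iff.rfl
  have hle := le_fixedSub_of_mem hcop hτ hC Q' hQ' ((hmem τ).2 hg)
  have h2 : g⁻¹ * α (g * τ * g⁻¹) * g ∈ Q' := by
    rw [hmem]
    convert hinv _ hg using 1
    group
  have h3 := hle h2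
  have h4 : (g⁻¹ * α g) * τ * (g⁻¹ * α g)⁻¹ ∈ fixedSub α := by
    convert h3 using 1
    rw [map_mul, map_mul, map_inv, hτ]
    group
  have h5 : g⁻¹ * α g = 1 :=
    eq_of_mul_fixed hcop (by group : α g = g * (g⁻¹ * α g)) (mem_of_conj_mem hcop hτ hC h4)
  have h6 : α g = g := (inv_mul_eq_one.1 h5).symm
  rw [mem_fixedSub, map_mul, map_mul, map_inv, hτ, h6]

/-- Sylow applied to the invariant group `C(Z)⟨s⟩`. -/
theorem exists_centralizing_conj_mem (hp : (orderOf α).Prime)
    (hcop : (orderOf α).Coprime (Nat.card G)) (hτ : α τ = τ) (hτ2 : τ * τ = 1)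
    (hC : ∀ x, Commute x τ → α x = x)
    (Z : Set G) (hZ : ∀ z ∈ Z, α z = z) {g : G}
    (hs : ∀ z ∈ Z, (g * τ * g⁻¹) * z * (g * τ * g⁻¹) = z⁻¹) :
    ∃ c, (∀ z ∈ Z, Commute c z) ∧ c * (g * τ * g⁻¹) * c⁻¹ ∈ fixedSub α := by
  haveI : Fact (Nat.Prime 2) := ⟨Nat.prime_two⟩
  haveI : Fact (orderOf α).Prime := ⟨hp⟩
  obtain ⟨s, hsdef⟩ : ∃ s, s = g * τ * g⁻¹ := ⟨_, rfl⟩
  rw [← hsdef] at hs ⊢
  have hs2 : s * s = 1 := by
    rw [hsdef]
    calc g * τ * g⁻¹ * (g * τ * g⁻¹) = g * (τ * τ) * g⁻¹ := by group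
      _ = 1 := by rw [hτ2]; group
  have hsinv : s⁻¹ = s := inv_eq_of_mul_eq_one_left hs2
  let C : Subgroup G := centralizer Z
  have hmemC : ∀ x, x ∈ C ↔ ∀ z ∈ Z, z * x = x * z := fun x => Subgroup.mem_centralizer_iff
  have hCs : ∀ x ∈ C, s * x * s ∈ C := by
    intro x hx
    rw [hmemC] at hx ⊢
    intro z hz
    have h1 : x * z⁻¹ = z⁻¹ * x := (Commute.inv_left (show Commute z x from hx z hz)).eq.symm
    have e1 : z * s = s * z⁻¹ := by rw [← hs z hz, ← mul_assoc, ← mul_assoc, hs2, one_mul]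
    have e2 : s * z = z⁻¹ * s := by rw [← hs z hz, mul_assoc, hs2, mul_one]
    calc z * (s * x * s) = (z * s) * x * s := by group
      _ = s * (x * z⁻¹) * s := by rw [e1, h1]; group
      _ = s * x * (z⁻¹ * s) := by group
      _ = s * x * s * z := by rw [← e2]; group
  let N : Subgroup G :=
    { carrier := {x | x ∈ C ∨ x * s ∈ C}
      one_mem' := Or.inl C.one_mem
      mul_mem' := by
        rintro x y (hx | hx) (hy | hy)
        · exact Or.inl (C.mul_mem hx hy)
        · exact Or.inr (by rw [mul_assoc]; exact C.mul_mem hx hy)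
        · refine Or.inr ?_
          have h : x * y * s = (x * s) * (s * y * s) := by
            calc x * y * s = x * (s * s) * y * s := by rw [hs2, mul_one]
              _ = (x * s) * (s * y * s) := by group
          rw [h]; exact C.mul_mem hx (hCs y hy)
        · refine Or.inl ?_
          have h : x * y = (x * s) * (s * (y * s) * s) := by
            calc x * y = x * (s * s) * y * (s * s) := by rw [hs2, mul_one, mul_one]
              _ = (x * s) * (s * (y * s) * s) := by group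
          rw [h]; exact C.mul_mem hx (hCs _ hy)
      inv_mem' := by
        rintro x (hx | hx)
        · exact Or.inl (C.inv_mem hx)
        · refine Or.inr ?_
          have h : x⁻¹ * s = s * (x * s)⁻¹ * s := by
            rw [mul_inv_rev, hsinv, ← mul_assoc s s, hs2, one_mul]
          rw [h]; exact hCs _ (C.inv_mem hx) }
  have hsN : s ∈ N := Or.inr (by rw [hs2]; exact C.one_mem)
  have hCinv : ∀ x ∈ C, α x ∈ C := by
    intro x hx
    rw [hmemC] at hx ⊢
    intro z hz
    rw [← hZ z hz, ← map_mul, ← map_mul, hx z hz]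
  have hαs : α s * s ∈ C := by
    rw [hmemC]
    intro z hz
    have e1 : α s * z⁻¹ = z * α s := by
      have e : s * z⁻¹ = z * s := by
        rw [← hs z hz, ← mul_assoc, ← mul_assoc, hs2, one_mul]
      have := congrArg α e
      rwa [map_mul, map_mul, map_inv, hZ z hz] at this
    have e2 : z⁻¹ * s = s * z := by rw [← hs z hz, mul_assoc, hs2, mul_one]
    calc z * (α s * s) = (z * α s) * s := by group
      _ = α s * (z⁻¹ * s) := by rw [← e1]; group
      _ = α s * s * z := by rw [e2]; group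
  have hNinv : ∀ x ∈ N, α x ∈ N := by
    rintro x (hx | hx)
    · exact Or.inl (hCinv x hx)
    · have h : α x = α (x * s) * α s := by rw [← map_mul, mul_assoc, hs2, mul_one]
      rw [h]
      exact N.mul_mem (Or.inl (hCinv _ hx)) (Or.inr hαs)
  have hNmap : ∀ x, x ∈ N ↔ α x ∈ N := by
    intro x
    refine ⟨hNinv x, fun h => ?_⟩
    have key : ∀ i : ℕ, ∀ y ∈ N, (α ^ i) y ∈ N := by
      intro i
      induction i with
      | zero => intro y hy; simpa using hy
      | succ i ih => intro y hy; rw [pow_succ', MulAut.mul_apply]; exact hNinv _ (ih y hy)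
    have h2 := key (orderOf α - 1) _ h
    rw [← MulAut.mul_apply, ← pow_succ, Nat.sub_add_cancel hp.pos, pow_orderOf_eq_one,
      MulAut.one_apply] at h2
    exact h2
  let β : MulAut N :=
    { toFun := fun x => ⟨α x, (hNmap x).1 x.2⟩
      invFun := fun x => ⟨α.symm x, (hNmap _).2 (by simp)⟩
      left_inv := fun x => Subtype.ext (by simp)
      right_inv := fun x => Subtype.ext (by simp)
      map_mul' := fun x y => Subtype.ext (map_mul α (x : G) y) }
  have hβapp : ∀ (x : N), ((β x : N) : G) = α x := fun x => rfl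
  have hβ : β ^ orderOf α = 1 := by
    have key : ∀ (i : ℕ) (x : N), (((β ^ i) x : N) : G) = (α ^ i) x := by
      intro i
      induction i with
      | zero => intro x; simp
      | succ i ih =>
        intro x
        rw [pow_succ', pow_succ', MulAut.mul_apply, MulAut.mul_apply, hβapp, ih]
    ext x
    rw [key, pow_orderOf_eq_one]
    simp
  haveI : Fintype (Sylow 2 N) := Fintype.ofFinite _
  have hdvd : ¬ orderOf α ∣ Fintype.card (Sylow 2 N) := by
    intro h
    rw [← Nat.card_eq_fintype_card] at h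
    obtain ⟨P₀⟩ : Nonempty (Sylow 2 N) := inferInstance
    have h2 : orderOf α ∣ Nat.card G :=
      ((h.trans P₀.card_dvd_index).trans (Subgroup.index_dvd_card _)).trans
        (Subgroup.card_subgroup_dvd_card N)
    exact hp.one_lt.ne' (Nat.eq_one_of_dvd_coprimes hcop dvd_rfl h2)
  have hσ : (MulAction.toPermHom (MulAut N) (Sylow 2 N) β) ^ (orderOf α) ^ 1 = 1 := by
    rw [pow_one, ← map_pow, hβ, map_one]
  obtain ⟨P, hP⟩ := Equiv.Perm.exists_fixed_point_of_prime hdvd hσ
  have hP' : β • P = P := hP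
  have hz : IsPGroup 2 (zpowers (⟨s, hsN⟩ : N)) := by
    intro y
    obtain ⟨i, hi⟩ := y.2
    refine ⟨1, Subtype.ext ?_⟩
    have hsq : (⟨s, hsN⟩ : N) ^ 2 = 1 := Subtype.ext (by simpa [pow_two] using hs2)
    show (y : N) ^ 2 ^ 1 = 1
    rw [← hi, pow_one, ← zpow_natCast, ← zpow_mul, mul_comm, zpow_mul, zpow_natCast, hsq,
      one_zpow]
  obtain ⟨P', hP'le⟩ := hz.exists_le_sylow
  obtain ⟨x, hx⟩ := MulAction.exists_smul_eq N P' P
  have hxP : x * ⟨s, hsN⟩ * x⁻¹ ∈ P := by
    rw [← hx, ← SetLike.mem_coe, Sylow.coe_smul]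
    exact ⟨⟨s, hsN⟩, hP'le (mem_zpowers _), rfl⟩
  let Q : Subgroup G := (P : Subgroup N).map N.subtype
  have hQ : IsPGroup 2 Q := P.isPGroup'.map _
  have hQinv : ∀ y ∈ Q, α y ∈ Q := by
    rintro _ ⟨y, hy, rfl⟩
    refine ⟨β y, ?_, rfl⟩
    have : β y ∈ β • (P : Subgroup N) := Subgroup.smul_mem_pointwise_smul y β _ hy
    rwa [← Sylow.pointwise_smul_def, hP'] at this
  have hxQ : (x : G) * s * (x : G)⁻¹ ∈ Q := ⟨_, hxP, by simp⟩
  obtain ⟨c, hcC, hc⟩ : ∃ c ∈ C, c * s * c⁻¹ = (x : G) * s * (x : G)⁻¹ := by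
    rcases x.2 with hx | hx
    · exact ⟨_, hx, rfl⟩
    · refine ⟨_, hx, ?_⟩
      rw [mul_inv_rev, hsinv, mul_assoc (x : G) s s, hs2, mul_one, mul_assoc]
  refine ⟨c, fun z hz => ((hmemC c).1 hcC z hz).symm, ?_⟩
  rw [← hc] at hxQ
  have h := conj_mem_of_invariant hcop hτ hC Q hQ hQinv (g := c * g)
    (by convert hxQ using 1; rw [hsdef]; group)
  convert h using 1
  rw [hsdef]; group

theorem conj_mem_fixed_eq (hp : (orderOf α).Prime) (hcop : (orderOf α).Coprime (Nat.card G))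
    (hτ : α τ = τ) (hτ2 : τ * τ = 1) (hC : ∀ x, Commute x τ → α x = x) [IsSimpleGroup G]
    {g : G} (hg : g * τ * g⁻¹ ∈ fixedSub α) : g * τ * g⁻¹ = τ := by
  classical
  haveI : Fintype G := Fintype.ofFinite G
  set H := fixedSub α with hH
  have hHne : H ≠ ⊤ := by
    intro h
    have : α = 1 := MulEquiv.ext fun x => by
      have hx : x ∈ H := by rw [h]; trivial
      exact hx
    exact hp.ne_one (orderOf_eq_one_iff.2 this)
  let cls : Finset G := Finset.univ.image fun x : G => x * τ * x⁻¹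
  let J : Finset G := cls.filter (· ∈ H)
  let fib : G ⧸ H → Finset G := fun P => cls.filter fun s => (QuotientGroup.mk s : G ⧸ H) = P
  have hcls : ∀ y, y ∈ cls ↔ ∃ x, x * τ * x⁻¹ = y := by simp [cls]
  have hclsconj : ∀ y ∈ cls, ∀ c, c * y * c⁻¹ ∈ cls := by
    intro y hy c
    obtain ⟨x, rfl⟩ := (hcls y).1 hy
    exact (hcls _).2 ⟨c * x, by group⟩
  have hsq : ∀ y ∈ cls, y * y = 1 := by
    intro y hy
    obtain ⟨x, rfl⟩ := (hcls y).1 hy
    calc x * τ * x⁻¹ * (x * τ * x⁻¹) = x * (τ * τ) * x⁻¹ := by group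
      _ = 1 := by rw [hτ2]; group
  have hfib : ∀ P, ∀ s ∈ fib P, ∃ c, ((fib P).image fun y => c * y * c⁻¹) ⊆ J ∧
      ∀ s₁ ∈ fib P, ∀ s₂ ∈ fib P,
        (c * s₁ * c⁻¹) * (c * s₂ * c⁻¹) = s₁ * s₂ := by
    intro P s hs
    obtain ⟨hscl, hsP⟩ := Finset.mem_filter.1 hs
    obtain ⟨x, hx⟩ := (hcls s).1 hscl
    let Z : Set G := {z | ∃ y ∈ fib P, z = s * y}
    have hmem : ∀ y ∈ fib P, s * y ∈ H := by
      intro y hy
      have h : (QuotientGroup.mk s : G ⧸ H) = QuotientGroup.mk y :=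
        hsP.trans (Finset.mem_filter.1 hy).2.symm
      have h2 := QuotientGroup.eq.1 h
      rwa [inv_eq_of_mul_eq_one_left (hsq s hscl)] at h2
    obtain ⟨c, hc, hcH⟩ := exists_centralizing_conj_mem (g := x) hp hcop hτ hτ2 hC Z
      (by rintro z ⟨y, hy, rfl⟩; exact hmem y hy)
      (by
        rintro z ⟨y, hy, rfl⟩
        rw [hx, mul_inv_rev, inv_eq_of_mul_eq_one_left (hsq s hscl),
          inv_eq_of_mul_eq_one_left (hsq y (Finset.mem_filter.1 hy).1), ← mul_assoc s s,
          hsq s hscl, one_mul])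
    rw [hx] at hcH
    refine ⟨c, ?_, ?_⟩
    · intro y' hy'
      obtain ⟨y, hy, rfl⟩ := Finset.mem_image.1 hy'
      refine Finset.mem_filter.2 ⟨hclsconj y (Finset.mem_filter.1 hy).1 c, ?_⟩
      have h1 : c * y * c⁻¹ = (c * s * c⁻¹)⁻¹⁻¹ * (c * (s * y) * c⁻¹) := by
        rw [inv_inv]
        calc c * y * c⁻¹ = c * (s * s) * y * c⁻¹ := by rw [hsq s hscl, mul_one]
          _ = c * s * c⁻¹ * (c * (s * y) * c⁻¹) := by group
      rw [h1]
      refine H.mul_mem (H.inv_mem (H.inv_mem hcH)) ?_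
      rw [(hc _ ⟨y, hy, rfl⟩).eq, mul_inv_cancel_right]
      exact hmem y hy
    · intro s₁ h₁ s₂ h₂
      have hk : Commute c (s₁ * s₂) := by
        have e2 : s₁ * s₂ = (s₁ * s) * (s * s₂) := by
          rw [mul_assoc, ← mul_assoc s s, hsq s hscl, one_mul]
        have e3 : s₁ * s = (s * s₁)⁻¹ := by
          rw [mul_inv_rev, inv_eq_of_mul_eq_one_left (hsq s hscl),
            inv_eq_of_mul_eq_one_left (hsq s₁ (Finset.mem_filter.1 h₁).1)]
        rw [e2, e3]
        exact (hc _ ⟨s₁, h₁, rfl⟩).inv_right.mul_right (hc _ ⟨s₂, h₂, rfl⟩)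
      calc (c * s₁ * c⁻¹) * (c * s₂ * c⁻¹) = c * (s₁ * s₂) * c⁻¹ := by group
        _ = s₁ * s₂ := by rw [hk.eq, mul_inv_cancel_right]
  have hle : ∀ P ∈ (Finset.univ : Finset (G ⧸ H)), (fib P).card ≤ J.card := by
    intro P _
    rcases (fib P).eq_empty_or_nonempty with h | ⟨s, hs⟩
    · rw [h]; exact Nat.zero_le _
    · obtain ⟨c, hc, -⟩ := hfib P s hs
      have hinj : Function.Injective fun y : G => c * y * c⁻¹ := fun a b hab => by simpa using hab
      have := Finset.card_le_card hc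
      rwa [Finset.card_image_of_injective _ hinj] at this
  have hsum : ∑ P : G ⧸ H, (fib P).card = ∑ _P : G ⧸ H, J.card := by
    rw [← Finset.card_eq_sum_card_fiberwise (fun s _ => Finset.mem_univ _), Finset.sum_const,
      smul_eq_mul, Finset.card_univ, ← Finset.card_univ, ← Finset.card_product]
    symm
    refine Finset.card_bij (fun w _ => w.1.out * w.2 * (w.1.out)⁻¹) ?_ ?_ ?_
    · intro w hw
      exact hclsconj _ (Finset.mem_filter.1 (Finset.mem_product.1 hw).2).1 _
    · intro w hw w' hw' heq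
      obtain ⟨hj, hjH⟩ := Finset.mem_filter.1 (Finset.mem_product.1 hw).2
      obtain ⟨hj', hj'H⟩ := Finset.mem_filter.1 (Finset.mem_product.1 hw').2
      obtain ⟨x, hx⟩ := (hcls _).1 hj
      have hxH : x ∈ H := mem_of_conj_mem hcop hτ hC (by rw [hx]; exact hjH)
      have h : (w'.1.out⁻¹ * w.1.out * x) * τ * (w'.1.out⁻¹ * w.1.out * x)⁻¹ ∈ H := by
        have e : (w'.1.out⁻¹ * w.1.out * x) * τ * (w'.1.out⁻¹ * w.1.out * x)⁻¹ = w'.2 := by
          calc _ = w'.1.out⁻¹ * (w.1.out * (x * τ * x⁻¹) * w.1.out⁻¹) * w'.1.out := by group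
            _ = w'.2 := by rw [hx, heq]; group
        rw [e]; exact hj'H
      have h2 := H.mul_mem (mem_of_conj_mem hcop hτ hC h) (H.inv_mem hxH)
      rw [mul_inv_cancel_right] at h2
      have h3 : w'.1 = w.1 := by
        rw [← QuotientGroup.out_eq' w'.1, ← QuotientGroup.out_eq' w.1]
        exact QuotientGroup.eq.2 h2
      refine Prod.ext h3.symm ?_
      rw [h3] at heq
      simpa using heq
    · intro y hy
      obtain ⟨x, hx⟩ := (hcls y).1 hy
      obtain ⟨h, hh⟩ := QuotientGroup.mk_out_eq_mul H x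
      refine ⟨(QuotientGroup.mk x, (h : G)⁻¹ * τ * h), Finset.mem_product.2
        ⟨Finset.mem_univ _, Finset.mem_filter.2 ⟨(hcls _).2 ⟨(h : G)⁻¹, by group⟩, ?_⟩⟩, ?_⟩
      · exact H.mul_mem (H.mul_mem (H.inv_mem h.2) hτ) h.2
      · show (QuotientGroup.mk x : G ⧸ H).out * _ * _ = y
        rw [hh, ← hx]; group
  have heq := (Finset.sum_eq_sum_iff_of_le hle).1 hsum
  have hJ : ∀ j ∈ J, ∀ k ∈ J, j * k ∈ H.normalCore := by
    intro j hj k hk y
    have hP := heq (QuotientGroup.mk (y⁻¹)) (Finset.mem_univ _)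
    obtain ⟨s, hs⟩ : (fib (QuotientGroup.mk y⁻¹)).Nonempty := by
      rw [← Finset.card_pos, hP]; exact Finset.card_pos.2 ⟨j, hj⟩
    obtain ⟨c, hc, hc2⟩ := hfib _ s hs
    have hinj : Function.Injective fun z : G => c * z * c⁻¹ := fun a b hab => by simpa using hab
    have himg : (fib (QuotientGroup.mk y⁻¹)).image (fun z => c * z * c⁻¹) = J :=
      Finset.eq_of_subset_of_card_le hc (by rw [Finset.card_image_of_injective _ hinj, hP])
    rw [← himg] at hj hk
    obtain ⟨s₁, h₁, rfl⟩ := Finset.mem_image.1 hj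
    obtain ⟨s₂, h₂, rfl⟩ := Finset.mem_image.1 hk
    rw [hc2 s₁ h₁ s₂ h₂]
    have e₁ : y * s₁ ∈ H := by simpa using QuotientGroup.eq.1 (Finset.mem_filter.1 h₁).2.symm
    have e₂ : y * s₂ ∈ H := by simpa using QuotientGroup.eq.1 (Finset.mem_filter.1 h₂).2.symm
    have e : y * (s₁ * s₂) * y⁻¹ = (y * s₁) * (y * s₂)⁻¹ := by
      rw [mul_inv_rev, inv_eq_of_mul_eq_one_left (hsq s₂ (Finset.mem_filter.1 h₂).1)]
      group
    rw [e]
    exact H.mul_mem e₁ (H.inv_mem e₂)
  have hbot : H.normalCore = ⊥ := (H.normalCore_normal.eq_bot_or_eq_top).resolve_right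
    fun h => hHne (top_unique (h ▸ H.normalCore_le))
  have h1 : τ * (g * τ * g⁻¹) ∈ H.normalCore := hJ τ
    (Finset.mem_filter.2 ⟨(hcls τ).2 ⟨1, by simp⟩, hτ⟩) _
    (Finset.mem_filter.2 ⟨(hcls _).2 ⟨g, rfl⟩, hg⟩)
  rw [hbot, Subgroup.mem_bot] at h1
  exact (mul_left_cancel (h1.trans hτ2.symm))

theorem exists_moved [IsSimpleGroup G] (hG : ¬ IsMulCommutative G) (τ : G) (hτ : orderOf τ = 2)
    (α : MulAut G) (hα : α ≠ 1) (hcop : (orderOf α).Coprime (Nat.card G)) :
    ∃ c ∈ Subgroup.centralizer ({τ} : Set G), α c ≠ c := by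
  haveI : Fact (Nat.Prime 2) := ⟨Nat.prime_two⟩
  by_contra hno
  push Not at hno
  have hn : orderOf α ≠ 1 := fun h => hα (orderOf_eq_one_iff.1 h)
  have hα0 : orderOf α ≠ 0 := by
    intro h
    rw [h, Nat.coprime_zero_left] at hcop
    have : orderOf τ ∣ Nat.card G := orderOf_dvd_natCard τ
    rw [hτ, hcop] at this
    norm_num at this
  obtain ⟨p, hp, hpd⟩ := Nat.exists_prime_and_dvd hn
  set β := α ^ (orderOf α / p) with hβdef
  have hβo : orderOf β = p := orderOf_pow_orderOf_div hα0 hpd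
  have hcopβ : (orderOf β).Coprime (Nat.card G) := by
    rw [hβo]; exact hcop.coprime_dvd_left hpd
  have hpow : ∀ (i : ℕ) (x : G), Commute x τ → (α ^ i) x = x := by
    intro i
    induction i with
    | zero => intro x _; simp
    | succ i ih =>
      intro x hx
      rw [pow_succ, MulAut.mul_apply,
        hno x (Subgroup.mem_centralizer_singleton_iff.2 hx), ih x hx]
  have hC : ∀ x, Commute x τ → β x = x := fun x hx => hpow _ x hx
  have hτ2 : τ * τ = 1 := by rw [← pow_two, ← hτ]; exact pow_orderOf_eq_one τ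
  have hτf : β τ = τ := hC τ (Commute.refl τ)
  have hz : IsPGroup 2 (zpowers τ) :=
    IsPGroup.of_card (n := 1) (by rw [Nat.card_zpowers, hτ, pow_one])
  obtain ⟨P, hle⟩ := hz.exists_le_sylow
  have hτP : τ ∈ P := hle (mem_zpowers τ)
  have hiso : ∀ g : G, g * τ * g⁻¹ ∈ P → g * τ * g⁻¹ = τ := fun g hgP =>
    conj_mem_fixed_eq (hβo.symm ▸ hp) hcopβ hτf hτ2 hC
      (le_fixedSub_of_mem hcopβ hτf hC P P.isPGroup' hτP hgP)
  have hmem := CfsgLib.ZStar.mem_oddCore_of_sylow P hτ hτP hiso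
  have hodd := CfsgLib.ZStar.odd_card_oddCore G
  have hbot : oddCore G = ⊥ :=
    (Subgroup.Normal.eq_bot_or_eq_top inferInstance).resolve_right fun h => by
      rw [h, Subgroup.card_top] at hodd
      have := orderOf_dvd_natCard τ
      rw [hτ] at this
      exact Nat.not_even_iff_odd.2 hodd (even_iff_two_dvd.2 this)
  have hcen : τ ∈ Subgroup.center G := by
    rw [Subgroup.mem_center_iff]
    intro g
    have h := hmem g
    rw [hbot, Subgroup.mem_bot, mul_inv_eq_one, mul_inv_eq_iff_eq_mul] at h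
    exact h.symm
  rcases (Subgroup.Normal.eq_bot_or_eq_top (inferInstance : (Subgroup.center G).Normal)) with h | h
  · rw [h, Subgroup.mem_bot] at hcen
    rw [hcen, orderOf_one] at hτ
    norm_num at hτ
  · exact hG ⟨⟨fun a b => (Subgroup.mem_center_iff.1 (h ▸ Subgroup.mem_top b : b ∈ _) a)⟩⟩

end CfsgLib.OddGated29.Moves
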